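import Cfsg.Agent.KFacts.M24Two.Chain
import Cfsg.Agent.KFacts.M24Two.Orders
import Cfsg.Agent.KFacts.M24Pair.Letters
set_option linter.all false

/-!
# The centraliser of the central involution `z = X 1 5` of `M24`

In the letters of `KFacts/M24Pair/Letters`: `C(z)` is generated by the twelve letters `0 … 11` (`C_eq`), has order `21504`
(`card_C`) and is perfect (`C_perfect`). `E1 = ⟨X12, X13, X14, X15⟩` (octad group) and `E2 = ⟨X15, X25, X35, X45⟩` are normal in
`C(z)`; `C_K(E1) = E1`; `C(z)` is transitive on `E1 - ⟨z⟩` and on `E2 - ⟨z⟩`.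
-/

set_option autoImplicit false

namespace Cfsg.Agent.KFacts.M24Two.CentZ

open Cfsg Cfsg.Agent.SporadicA.GolayBase Cfsg.Agent.SporadicA.GolayPerm
open Cfsg.Agent.SporadicStructure.M24El Cfsg.Agent.KFacts.M24Two.Tool
open Cfsg.Agent.KFacts.M24Two.Chain Cfsg.Agent.KFacts.M24Pair.Letters
open scoped Pointwise commutatorElement

/-! ### Subgroups generated by letters -/

/-- the subgroup generated by the letters of a list -/
noncomputable def cl (rs : List ℕ) : Subgroup M24 := Subgroup.closure {x | ∃ r ∈ rs, x = xx r}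

theorem xx_mem {rs : List ℕ} {r : ℕ} (h : r ∈ rs) : xx r ∈ cl rs := Subgroup.subset_closure ⟨r, h, rfl⟩

theorem ev_mem {H : Subgroup M24} {w : List ℕ} (h : ∀ k ∈ w, xx k ∈ H) : ev w ∈ H := by
  induction w with
  | nil => rw [ev_nil]; exact H.one_mem
  | cons k w ih =>
    rw [ev_cons]
    exact H.mul_mem (h k List.mem_cons_self) (ih fun j hj => h j (List.mem_cons_of_mem _ hj))

theorem ev_mem_cl {rs w : List ℕ} (h : ∀ k ∈ w, k ∈ rs) : ev w ∈ cl rs := ev_mem fun k hk => xx_mem (h k hk)

theorem cl_le {rs : List ℕ} {H : Subgroup M24} (h : ∀ r ∈ rs, xx r ∈ H) : cl rs ≤ H := by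
  unfold cl
  rw [Subgroup.closure_le]
  rintro _ ⟨r, hr, rfl⟩
  exact h r hr

theorem conj_mem_cl {rs : List ℕ} {H : Subgroup M24} {g : M24} (h : ∀ r ∈ rs, g * xx r * g⁻¹ ∈ H) {x : M24}
    (hx : x ∈ cl rs) : g * x * g⁻¹ ∈ H := by
  have h1 : cl rs ≤ H.comap (MulAut.conj g).toMonoidHom := cl_le fun r hr => h r hr
  exact h1 hx

/-- the conjugate of a letter by a word -/
theorem conj_of_weq {c r w : List ℕ} (h : weqb (c ++ r) (w ++ c) = true) :
    ev c * ev r * (ev c)⁻¹ = ev w := by
  have h1 := weq h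
  rw [ev_append, ev_append] at h1
  rw [h1, mul_inv_cancel_right]

theorem ev_singleton (k : ℕ) : ev [k] = xx k := by
  rw [ev_cons, ev_nil, mul_one]

/-- enumeration of a subgroup generated by letters -/
theorem mem_cl_list {rs : List ℕ} {L : List (List ℕ)} (hr : ∀ r ∈ rs, r < 12) (h0 : [] ∈ L)
    (hmul : (rs.all fun r => L.all fun w => L.any fun v => weqb (r :: w) v) = true) {x : M24}
    (hx : x ∈ cl rs) : ∃ w ∈ L, x = ev w := by
  have key : ∀ r ∈ rs, ∀ y : M24, (∃ w ∈ L, y = ev w) → ∃ w ∈ L, xx r * y = ev w := by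
    rintro r hr y ⟨w, hw, rfl⟩
    obtain ⟨v, hv, h⟩ := List.any_eq_true.1 (List.all_eq_true.1 (List.all_eq_true.1 hmul r hr) w hw)
    refine ⟨v, hv, ?_⟩
    rw [← weq h, ev_cons]
  unfold cl at hx
  induction hx using Subgroup.closure_induction_left with
  | one => exact ⟨[], h0, ev_nil.symm⟩
  | mul_left x hx y _ ih =>
    obtain ⟨r, hr, rfl⟩ := hx
    exact key r hr y ih
  | inv_mul_cancel x hx y _ ih =>
    obtain ⟨r, hr', rfl⟩ := hx
    have h1 : (xx r)⁻¹ = xx r := inv_eq_of_mul_eq_one_left (xx_sq (hr r hr'))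
    rw [h1]
    exact key r hr' y ih

/-! ### Data -/

/-- levels of the stabiliser chain of `C(z)` -/
def lv : List (ℕ × List ℕ) := [(0, [984818244535754528103549039458486304,
  592353204691533442233142632973374465, 137946475452688126480473909395947682,
  106832945418929216786996674173099555, 895331677915748499267375548929943108,
  734329880810077958673094028830377029, 375250507037952429416640096945460936,
  350627131631301019345454407927632489, 750352961572444484566386375383440042,
  53976905564390133365199993489770222, 213681097596010327024722790345390193,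
  419871311365176449838045485430688914, 944414912285431307894546630450694451,
  172669915083787644393462845276463445, 789458214617687033901431881513642262,
  24851906469401561637476012594892247]), (2, [984818244535754528103549039458486304,
  96443752014750802672123555122744352, 102111224915786802225309538033373216,
  610519923311516637246277765738632224, 105322060983101269595828526622875680,
  978320980801228321302614373466121248, 230539675383125703362191501633529888,
  237028699381722998752239923903969312, 221462702573627726710105079651484704,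
  226285920177102422100775406808647712, 604035613390855231251586929326836768,
  105517278406508551547677610218902560, 230504181942676210459393695965435936,
  112008758482904261652442838286326816]), (3, [984818244535754528103549039458486304,
  396866332795425688989604990842701856, 895322112351893729754939324291614752,
  184462601227497823249225084259567648, 936863684776639371077128404694534176,
  734314006698834082329304983377741856, 592348547565827762175298702812940320,
  793700549714115385160648990986405920, 778261833241577723172429855730534432,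
  355315594318048833506467054639286304, 438400842426801167085057447710885920,
  137935104962206912083219455161370656]), (4, [984818244535754528103549039458486304,
  979121071158219704299181131031480352, 968708902336673183175954409307867168,
  967812279691448225500382947153381408, 966182099583441531322624363496310816,
  983548720921252936276249910206105632, 980224387687010295957922729495201824,
  961365507626256404119956257276790816])]
/-- the words of the levels -/
def lw : List (List ℕ) := [[], [3], [2], [1], [0], [3, 2], [1, 0], [2, 0], [3, 2, 1, 0], [3, 2, 1], [3, 1],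
  [3, 0], [3, 2, 0], [2, 1, 0], [3, 1, 0], [2, 1], [], [7, 2, 11], [4, 10, 7, 11, 1], [9], [0, 5, 10, 11],
  [11, 10, 11, 0], [10, 11, 9, 0], [11, 9], [7, 2, 11, 9], [4, 10, 7, 11, 9, 1], [11, 10, 11, 9, 0], [10, 11,
  0], [0, 5, 10, 11, 9], [11], [], [4, 10, 1], [10, 0], [4, 10, 7, 1], [0, 6, 5, 10], [1, 8, 7, 1], [8, 3],
  [4, 10, 8, 1], [4, 10, 8, 7, 1], [0, 5, 10], [0, 6, 10], [7, 2], [], [4, 1], [5, 2], [0, 6, 5, 4, 0], [6,
  3], [0, 6, 5, 0], [0, 5, 4, 0], [0, 6, 4, 0]]
/-- conjugates of the letters `0 1 2 3` by the letters `0 … 11` -/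
def cE1 : List (List (List ℕ)) := [[[0], [1], [2], [3]], [[0], [1], [2], [3]], [[0], [1], [2], [3]], [[0],
  [1], [2], [3]], [[0, 1], [1], [2], [3]], [[0, 2], [1], [2], [3]], [[0, 3], [1], [2], [3]], [[0], [1, 2],
  [2], [3]], [[0], [1, 3], [2], [3]], [[0], [1], [2, 3], [3]], [[0], [0, 1], [2], [3]], [[0], [1], [1, 2],
  [3]]]
/-- the elements of `E1` -/
def LE1 : List (List ℕ) := [[], [0], [1], [2], [3], [0, 1], [0, 2], [0, 3], [1, 2], [1, 3], [2, 3], [0, 1, 2],
  [0, 1, 3], [0, 2, 3], [1, 2, 3], [0, 1, 2, 3]]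
/-- conjugates of the letters `3 6 8 9` -/
def cE2 : List (List (List ℕ)) := [[[3], [3, 6], [8], [9]], [[3], [6], [3, 8], [9]], [[3], [6], [8], [3, 9]],
  [[3], [6], [8], [9]], [[3], [6], [6, 8], [9]], [[3], [6], [8], [6, 9]], [[3], [6], [8], [9]], [[3], [6],
  [8], [8, 9]], [[3], [6], [8], [9]], [[3], [6], [8], [9]], [[3], [6, 8], [8], [9]], [[3], [6], [8, 9], [9]]]
/-- the elements of `E2` -/
def LE2 : List (List ℕ) := [[], [3], [6], [8], [9], [3, 6], [3, 8], [3, 9], [6, 8], [6, 9], [8, 9], [3, 6, 8],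
  [3, 6, 9], [3, 8, 9], [6, 8, 9], [3, 6, 8, 9]]
/-- conjugates of `X14`: `(e, c)`, `c X14 c⁻¹ = e` -/
def tE1 : List (List ℕ × List ℕ) := [([0], [4, 10, 7, 11]), ([1], [7, 11]), ([2], []), ([0, 1], [10, 7, 11]),
  ([0, 2], [4, 10, 11]), ([0, 3], [4, 10, 7, 11, 9]), ([1, 2], [11]), ([1, 3], [7, 11, 9]), ([2, 3], [9]),
  ([0, 1, 2], [10, 11]), ([0, 1, 3], [10, 7, 11, 9]), ([0, 2, 3], [4, 10, 11, 9]), ([1, 2, 3], [11, 9]), ([0,
  1, 2, 3], [10, 11, 9])]
/-- conjugates of `X25` -/
def tE2 : List (List ℕ × List ℕ) := [([6], []), ([8], [4, 10]), ([9], [7, 11, 4, 10]), ([3, 6], [0]), ([3, 8],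
  [4, 10, 0]), ([3, 9], [7, 11, 4, 10, 0]), ([6, 8], [10]), ([6, 9], [7, 11, 10]), ([8, 9], [11, 4, 10]), ([3,
  6, 8], [10, 0]), ([3, 6, 9], [7, 11, 10, 0]), ([3, 8, 9], [11, 4, 10, 0]), ([6, 8, 9], [11, 10]), ([3, 6, 8,
  9], [11, 10, 0])]



/-! ### The central involution and its centraliser -/

/-- the central involution of the Sylow subgroup -/
noncomputable def z : M24 := X 1 5

theorem z_eq : z = xx 3 := rfl

theorem zz : z * z = 1 := X_sq (by norm_num)

theorem z_ne : z ≠ 1 := X_ne_one (by norm_num)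

theorem z_fix : z • pt 6 = pt 6 := by
  rw [z_eq]
  unfold xx
  rw [el_smul_pt (ok_getD gx_ok 3), idx_pt (by norm_num), show papp (gx.getD 3 idP) 6 = 6 by decide +kernel]

theorem conj_z : ∃ g : M24, g * z * g⁻¹ = Count.z := Count.conj_z_of_fix zz z_ne z_fix

theorem card_centralizer_conj {G : Type*} [Group G] {u v g : G} (h : g * u * g⁻¹ = v) :
    Nat.card (Subgroup.centralizer ({u} : Set G)) = Nat.card (Subgroup.centralizer ({v} : Set G)) := by
  refine Nat.card_congr (Equiv.subtypeEquiv (MulAut.conj g).toEquiv fun x => ?_)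
  show x ∈ Subgroup.centralizer ({u} : Set G) ↔ g * x * g⁻¹ ∈ Subgroup.centralizer ({v} : Set G)
  rw [Subgroup.mem_centralizer_singleton_iff, Subgroup.mem_centralizer_singleton_iff, ← h]
  constructor
  · intro e
    calc g * x * g⁻¹ * (g * u * g⁻¹) = g * (x * u) * g⁻¹ := by group
      _ = g * (u * x) * g⁻¹ := by rw [e]
      _ = g * u * g⁻¹ * (g * x * g⁻¹) := by group
  · intro e
    calc x * u = g⁻¹ * (g * x * g⁻¹ * (g * u * g⁻¹)) * g := by group
      _ = g⁻¹ * (g * u * g⁻¹ * (g * x * g⁻¹)) * g := by rw [e]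
      _ = u * x := by group

/-- the centraliser of `z` -/
noncomputable def C : Subgroup M24 := Subgroup.centralizer ({z} : Set M24)

theorem mem_C {x : M24} : x ∈ C ↔ x * z = z * x := Subgroup.mem_centralizer_singleton_iff

theorem card_C : Nat.card C = 21504 := by
  obtain ⟨g, hg⟩ := conj_z
  exact (card_centralizer_conj hg).trans Orders.card_centralizer_z

theorem lett_comm : ((List.range 12).all fun c => weqb [c, 3] [3, c]) = true := by decide +kernel

theorem xx_mem_C {c : ℕ} (hc : c < 12) : xx c ∈ C := by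
  rw [mem_C, z_eq]
  have h := weq (List.all_eq_true.1 lett_comm c (List.mem_range.2 hc))
  simpa only [ev_cons, ev_nil, mul_one] using h

theorem take_ok : ∀ P ∈ gx.take 12, ok P = true := fun P hP => gx_ok P (List.mem_of_mem_take hP)

theorem take_mem {H : Subgroup M24} (hH : ∀ c < 12, xx c ∈ H) : ∀ P ∈ gx.take 12, el P ∈ H := by
  intro P hP
  obtain ⟨k, hk, rfl⟩ := List.mem_iff_getElem.1 hP
  rw [List.length_take] at hk
  have hk12 : k < 12 := lt_of_lt_of_le hk (min_le_left _ _)
  have hkl : k < gx.length := lt_of_lt_of_le hk (min_le_right _ _)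
  have h := hH k hk12
  unfold xx at h
  rw [List.getD_eq_getElem _ _ hkl] at h
  rw [List.getElem_take]
  exact h

theorem lv_ok : chkLv [] lv = true := by decide +kernel

theorem lw_ok : chkW (gx.take 12) (lv.flatMap Prod.snd) lw = true := by decide +kernel

theorem lv_sz : sz lv = 21504 := by decide +kernel

/-- `C(z)` is generated by the twelve letters `0, …, 11` -/
theorem C_eq : C = cl (List.range 12) := by
  symm
  have h1 : cl (List.range 12) ≤ C := cl_le fun r hr => xx_mem_C (List.mem_range.1 hr)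
  apply Subgroup.eq_of_le_of_card_ge h1
  have h2 := sz_le_card (H := cl (List.range 12)) take_ok
    (take_mem fun c hc => xx_mem (List.mem_range.2 hc)) lv_ok lw_ok
  rw [lv_sz] at h2
  rw [card_C]
  exact h2

/-- a subgroup containing the twelve letters contains `C(z)` -/
theorem C_le {H : Subgroup M24} (h : ∀ c < 12, xx c ∈ H) : C ≤ H := by
  rw [C_eq]
  exact cl_le fun r hr => h r (List.mem_range.1 hr)

/-- the letters as commutators: `x_c = [u, v]` -/
def cm : List (List ℕ × List ℕ) := [([1], [10]), ([0], [4]), ([1], [7]), ([0], [6]), ([5], [11]), ([4], [7]),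
  ([4], [8]), ([10], [5]), ([7], [9]), ([11], [8]), ([7], [11, 10, 11, 10]), ([11, 10, 11, 10], [4])]

theorem cm_ok : ((List.range 12).all fun c =>
    weqb ((cm.getD c ([], [])).1 ++ (cm.getD c ([], [])).2)
      (c :: ((cm.getD c ([], [])).2 ++ (cm.getD c ([], [])).1)) &&
    ((cm.getD c ([], [])).1.all fun k => Nat.blt k 12) &&
    ((cm.getD c ([], [])).2.all fun k => Nat.blt k 12)) = true := by decide +kernel

/-- `C(z)` is perfect -/
theorem C_perfect : (⁅C, C⁆ : Subgroup M24) = C := by
  apply le_antisymm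
  · rw [Subgroup.commutator_le]
    intro a ha b hb
    rw [commutatorElement_def]
    exact C.mul_mem (C.mul_mem (C.mul_mem ha hb) (C.inv_mem ha)) (C.inv_mem hb)
  · apply C_le
    intro c hc
    have h := List.all_eq_true.1 cm_ok c (List.mem_range.2 hc)
    simp only [Bool.and_eq_true, List.all_eq_true, Nat.blt_eq] at h
    obtain ⟨⟨h1, h2⟩, h3⟩ := h
    have h4 := weq h1
    rw [ev_append, ev_cons, ev_append] at h4
    have h5 : xx c = ⁅ev (cm.getD c ([], [])).1, ev (cm.getD c ([], [])).2⁆ := by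
      rw [commutatorElement_def, h4]; group
    rw [h5]
    exact Subgroup.commutator_mem_commutator (ev_mem fun k hk => xx_mem_C (h2 k hk))
      (ev_mem fun k hk => xx_mem_C (h3 k hk))

/-! ### The normal subgroups `E1` and `E2` -/

/-- the octad group -/
noncomputable def E1 : Subgroup M24 := cl [0, 1, 2, 3]
/-- the other normal subgroup of order 16 of `C(z)` -/
noncomputable def E2 : Subgroup M24 := cl [3, 6, 8, 9]

theorem mem_E1 {x : M24} : x ∈ E1 ↔ ∃ w ∈ LE1, x = ev w := by
  constructor
  · exact mem_cl_list (by decide) (by decide) (by decide +kernel)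
  · rintro ⟨w, hw, rfl⟩
    have h : ∀ w ∈ LE1, ∀ k ∈ w, k ∈ [0, 1, 2, 3] := by decide
    exact ev_mem_cl (h w hw)

theorem mem_E2 {x : M24} : x ∈ E2 ↔ ∃ w ∈ LE2, x = ev w := by
  constructor
  · exact mem_cl_list (by decide) (by decide) (by decide +kernel)
  · rintro ⟨w, hw, rfl⟩
    have h : ∀ w ∈ LE2, ∀ k ∈ w, k ∈ [3, 6, 8, 9] := by decide
    exact ev_mem_cl (h w hw)

/-- Boolean check: the letter `c` conjugates the letters `rs` to the words `ws` in the letters `rs` -/
def chkN (rs : List ℕ) (c : ℕ) (ws : List (List ℕ)) : Bool :=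
  (List.range rs.length).all fun i =>
    weqb [c, rs.getD i 16] (ws.getD i [] ++ [c]) && (ws.getD i []).all fun k => rs.any (Nat.beq k)

theorem conj_of_chkN {rs : List ℕ} {c : ℕ} {ws : List (List ℕ)} (h : chkN rs c ws = true) :
    ∀ r ∈ rs, xx c * xx r * (xx c)⁻¹ ∈ cl rs := by
  intro r hr
  obtain ⟨i, hi, rfl⟩ := List.mem_iff_getElem.1 hr
  have h1 := List.all_eq_true.1 h i (List.mem_range.2 hi)
  rw [Bool.and_eq_true, List.getD_eq_getElem _ _ hi] at h1
  have h2 := conj_of_weq (c := [c]) (r := [rs[i]]) h1.1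
  rw [ev_singleton, ev_singleton] at h2
  rw [h2]
  apply ev_mem_cl
  intro k hk
  obtain ⟨j, hj, e⟩ := List.any_eq_true.1 (List.all_eq_true.1 h1.2 k hk)
  rw [Nat.eq_of_beq_eq_true e]
  exact hj

theorem normal_of_chkN {rs : List ℕ} {cw : List (List (List ℕ))}
    (h : ((List.range 12).all fun c => chkN rs c (cw.getD c [])) = true) {c : M24} (hc : c ∈ C) {x : M24}
    (hx : x ∈ cl rs) : c * x * c⁻¹ ∈ cl rs := by
  have h1 : C ≤ Subgroup.normalizer (cl rs : Set M24) := by
    apply C_le
    intro c hc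
    apply Subgroup.mem_normalizer_fintype
    intro y hy
    exact conj_mem_cl (conj_of_chkN (List.all_eq_true.1 h c (List.mem_range.2 hc))) hy
  exact (Subgroup.mem_normalizer_iff.1 (h1 hc) x).1 hx

theorem E1_normal {c : M24} (hc : c ∈ C) {x : M24} (hx : x ∈ E1) : c * x * c⁻¹ ∈ E1 :=
  normal_of_chkN (cw := cE1) (by decide +kernel) hc hx

theorem E2_normal {c : M24} (hc : c ∈ C) {x : M24} (hx : x ∈ E2) : c * x * c⁻¹ ∈ E2 :=
  normal_of_chkN (cw := cE2) (by decide +kernel) hc hx

/-! ### `C_K(E1) = E1` -/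

/-- Elements of `M24` which agree on six points of an octad and on a point outside it are equal. -/
theorem ext_of_frame {m : ℕ} (hm : m < 2 ^ 24) (hc : isCode m = true ∧ popcount m = 8) {fs : List ℕ}
    (hfs : fs.Nodup) (hl : 6 ≤ fs.length) (hf : ∀ i ∈ fs, i < 24 ∧ m.testBit i = true) {p : ℕ} (hp : p < 24)
    (hpm : m.testBit p = false) {g h : M24} (h1 : ∀ i ∈ fs, g • pt i = h • pt i) (h2 : g • pt p = h • pt p) :
    g = h := by
  have h3 : h⁻¹ * g = 1 := by
    apply Subtype.ext
    apply Cfsg.Agent.SporadicStructure.M24Frame.eq_one_of_fix_frame (h⁻¹ * g).2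
      ((fin_mem_octads_iff hm).2 hc) (s := (fs.map pt).toFinset) (p := pt p)
    · intro r hr
      rw [List.mem_toFinset, List.mem_map] at hr
      obtain ⟨i, hi, rfl⟩ := hr
      rw [mem_fin, idx_pt (hf i hi).1]
      exact (hf i hi).2
    · rw [List.toFinset_card_of_nodup, List.length_map]
      · exact hl
      · apply List.Nodup.map_on _ hfs
        intro a ha b hb e
        rw [← idx_pt (hf a ha).1, ← idx_pt (hf b hb).1, e]
    · intro r hr
      rw [List.mem_toFinset, List.mem_map] at hr
      obtain ⟨i, hi, rfl⟩ := hr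
      show (h⁻¹ * g) • pt i = pt i
      rw [mul_smul, h1 i hi, inv_smul_smul]
    · rw [mem_fin, idx_pt hp, hpm]
      decide
    · show (h⁻¹ * g) • pt p = pt p
      rw [mul_smul, h2, inv_smul_smul]
  rw [inv_mul_eq_one] at h3
  exact h3.symm

/-- a letter word acting on a point -/
theorem ev_smul (w : List ℕ) {i : ℕ} (hi : i < 24) : ev w • pt i = pt (papp (prodW gx w) i) := by
  rw [← el_prodW_eq, el_smul_pt (ok_prodW gx_ok w), idx_pt hi]

theorem papp_word_lt (w : List ℕ) {i : ℕ} (hi : i < 24) : papp (prodW gx w) i < 24 :=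
  papp_lt (ok_iff.1 (ok_prodW gx_ok w)).1 hi

theorem E1_comm {x y : M24} (hx : x ∈ E1) (hy : y ∈ E1) : x * y = y * x := by
  have h1 : ∀ r ∈ [0, 1, 2, 3], ∀ s ∈ [0, 1, 2, 3], weqb [r, s] [s, r] = true := by decide +kernel
  have h2 : E1 ≤ Subgroup.centralizer (E1 : Set M24) := by
    apply cl_le
    intro r hr
    rw [Subgroup.mem_centralizer_iff]
    intro a ha
    have h3 : E1 ≤ Subgroup.centralizer ({xx r} : Set M24) := by
      apply cl_le
      intro s hs
      rw [Subgroup.mem_centralizer_singleton_iff]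
      have h := weq (h1 s hs r hr)
      simpa only [ev_cons, ev_nil, mul_one] using h
    exact Subgroup.mem_centralizer_singleton_iff.1 (h3 ha)
  exact Subgroup.mem_centralizer_iff.1 (h2 hy) x hx

theorem reg_ok : ((List.range 24).all fun q => Nat.beq (papp (gx.getD 0 idP) q) q ||
    LE1.any fun w => Nat.beq (papp (prodW gx w) 0) q) = true := by decide +kernel

theorem move0 : Nat.beq (papp (gx.getD 0 idP) 0) 0 = false := by decide +kernel

/-- `C_K(E1) = E1` -/
theorem mem_E1_of_comm {g : M24} (hg : ∀ r ∈ [0, 1, 2, 3], g * xx r = xx r * g) : g ∈ E1 := by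
  have hE : ∀ x ∈ E1, g * x = x * g := by
    have h3 : E1 ≤ Subgroup.centralizer ({g} : Set M24) := cl_le fun r hr =>
      Subgroup.mem_centralizer_singleton_iff.2 (hg r hr).symm
    exact fun x hx => (Subgroup.mem_centralizer_singleton_iff.1 (h3 hx)).symm
  have hreg : ∀ q < 24, papp (gx.getD 0 idP) q ≠ q → ∃ w ∈ LE1, papp (prodW gx w) 0 = q := by
    intro q hq hne
    have h := List.all_eq_true.1 reg_ok q (List.mem_range.2 hq)
    rw [Bool.or_eq_true, List.any_eq_true] at h
    rcases h with h | ⟨w, hw, h⟩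
    · exact absurd (Nat.eq_of_beq_eq_true h) hne
    · exact ⟨w, hw, Nat.eq_of_beq_eq_true h⟩
  obtain ⟨w, hw, hw0⟩ := hreg (idx (g • pt 0)) (idx_lt _) (by
    intro h
    have h1 : xx 0 • g • pt 0 = g • pt 0 := by
      apply idx_injective
      unfold xx
      rw [idx_el_smul (ok_getD gx_ok 0), h]
    rw [← mul_smul, ← hg 0 (by decide), mul_smul] at h1
    have h2 := MulAction.injective g h1
    have h3 := congrArg idx h2
    unfold xx at h3
    rw [idx_el_smul (ok_getD gx_ok 0), idx_pt (by norm_num)] at h3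
    have := move0
    rw [h3] at this
    exact absurd this (by decide))
  have hwE : ev w ∈ E1 := mem_E1.2 ⟨w, hw, rfl⟩
  have h0 : g • pt 0 = ev w • pt 0 := by
    rw [ev_smul w (by norm_num), hw0, pt_idx]
  have hagree : ∀ q < 24, papp (gx.getD 0 idP) q ≠ q → g • pt q = ev w • pt q := by
    intro q hq hne
    obtain ⟨u, hu, hu0⟩ := hreg q hq hne
    have huE : ev u ∈ E1 := mem_E1.2 ⟨u, hu, rfl⟩
    have h1 : pt q = ev u • pt 0 := by rw [ev_smul u (by norm_num), hu0]
    rw [h1, ← mul_smul, ← mul_smul, hE _ huE, E1_comm hwE huE, mul_smul, mul_smul, h0]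
  have h5 : g = ev w := by
    apply ext_of_frame (m := 280334) (fs := [1, 2, 3, 8, 9, 10]) (p := 0) (by norm_num)
      (by decide +kernel) (by decide) (by decide) (by decide) (by norm_num) (by decide)
    · intro i hi
      have h6 : ∀ i ∈ [1, 2, 3, 8, 9, 10], i < 24 ∧ papp (gx.getD 0 idP) i ≠ i := by decide +kernel
      exact hagree i (h6 i hi).1 (h6 i hi).2
    · exact h0
  rw [h5]
  exact hwE

/-! ### Transitivity -/

theorem tE1_ok : (tE1.all fun e => weqb (e.2 ++ [2]) (e.1 ++ e.2) && e.2.all fun k => Nat.blt k 12) = true := by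
  decide +kernel

theorem tE2_ok : (tE2.all fun e => weqb (e.2 ++ [6]) (e.1 ++ e.2) && e.2.all fun k => Nat.blt k 12) = true := by
  decide +kernel

/-- `C(z)` is transitive on `E1 - ⟨z⟩` -/
theorem E1_trans {x : M24} (hx : x ∈ E1) (h1 : x ≠ 1) (h2 : x ≠ z) : ∃ c ∈ C, c * xx 2 * c⁻¹ = x := by
  obtain ⟨w, hw, rfl⟩ := mem_E1.1 hx
  have h3 : ∀ w ∈ LE1, w = [] ∨ w = [3] ∨ ∃ e ∈ tE1, e.1 = w := by decide
  rcases h3 w hw with rfl | rfl | ⟨e, he, rfl⟩
  · exact absurd ev_nil h1
  · exact absurd (ev_singleton 3) h2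
  · have h4 := List.all_eq_true.1 tE1_ok e he
    simp only [Bool.and_eq_true, List.all_eq_true, Nat.blt_eq] at h4
    refine ⟨ev e.2, ev_mem fun k hk => xx_mem_C (h4.2 k hk), ?_⟩
    have h5 := conj_of_weq (c := e.2) (r := [2]) h4.1
    rwa [ev_singleton] at h5

/-- `C(z)` is transitive on `E2 - ⟨z⟩` -/
theorem E2_trans {x : M24} (hx : x ∈ E2) (h1 : x ≠ 1) (h2 : x ≠ z) : ∃ c ∈ C, c * xx 6 * c⁻¹ = x := by
  obtain ⟨w, hw, rfl⟩ := mem_E2.1 hx
  have h3 : ∀ w ∈ LE2, w = [] ∨ w = [3] ∨ ∃ e ∈ tE2, e.1 = w := by decide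
  rcases h3 w hw with rfl | rfl | ⟨e, he, rfl⟩
  · exact absurd ev_nil h1
  · exact absurd (ev_singleton 3) h2
  · have h4 := List.all_eq_true.1 tE2_ok e he
    simp only [Bool.and_eq_true, List.all_eq_true, Nat.blt_eq] at h4
    refine ⟨ev e.2, ev_mem fun k hk => xx_mem_C (h4.2 k hk), ?_⟩
    have h5 := conj_of_weq (c := e.2) (r := [6]) h4.1
    rwa [ev_singleton] at h5

end Cfsg.Agent.KFacts.M24Two.CentZ
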