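import Mathlib
import Cfsg.Agent.KFacts.M24Two.CentZ
import Cfsg.Agent.KFacts.OutTwo
import Cfsg.Agent.LargeExtra.Nine.ToCent
set_option linter.all false

-- merged: Cfsg.Agent.OddHalf.M24.Defs
section

/-!
# ODD half, D8, `K = M24`: definitions (helper785; text bb #10112, repair of Step 5 by helper508 #10484)

`Amb ι t`: `C_G(t) = ⟨t⟩ × ι(X)`, `ι : X →* G` injective (`X` is the Prelude group, `K = ι(X)`).
`Fam ι t z y`: the `X`-equivariant family `y u` (`u` in the class `C` of `z`): `y u` is an involution,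
`t ↦ t u` under `y u`. `Facts`: the facts about `X = M24`; `z = x15`, `E = ⟨x12, x13, x14, x15⟩` (octad group),
`E₂ = ⟨x15, x25, x35, x45⟩`, `E' = ⟨x21, x23, x24, x25⟩`, `V = ⟨x23, x24, x25⟩`, `r = x24`, `s = x35`,
`w = x34`, `w' = x35`.
-/

set_option autoImplicit false

namespace Cfsg.Agent.OddHalf.M24

open Subgroup

/-- `C_G(t) = ⟨t⟩ × ι(X)` -/
structure Amb {X G : Type*} [Group X] [Group G] (ι : X →* G) (t : G) : Prop where
  inj : Function.Injective ι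
  tt : t * t = 1
  tι : ∀ x, ι x ≠ t
  ct : ∀ x, ι x * t = t * ι x
  spl : ∀ g, g * t = t * g → ∃ x, g = ι x ∨ g = t * ι x

/-- the class of `z` -/
def Cl {X : Type*} [Group X] (z : X) : Set X := {u | ∃ k, k * z * k⁻¹ = u}

/-- the family `y` -/
structure Fam {X G : Type*} [Group X] [Group G] (ι : X →* G) (t : G) (z : X) (y : X → G) : Prop
    extends Amb ι t where
  zz : z * z = 1
  z1 : z ≠ 1
  ysq : ∀ u ∈ Cl z, y u * y u = 1
  yt : ∀ u ∈ Cl z, y u * t * (y u)⁻¹ = t * ι u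
  yeq : ∀ u ∈ Cl z, ∀ k, y (k * u * k⁻¹) = ι k * y u * (ι k)⁻¹
  /-- `t` is not conjugate to `z` -/
  tz : ∀ g, g * t * g⁻¹ ≠ ι z

/-- `w ∈ C` is a transvection on `E` with centre `a`, and fact (K3) -/
structure Tv {X : Type*} [Group X] (z : X) (E : Subgroup X) (w : X) : Prop where
  wC : w ∈ Cl z
  wE : w ∉ E
  nor : ∀ e ∈ E, w * e * w⁻¹ ∈ E
  tv : ∃ a ∈ E, a ≠ 1 ∧ w * a = a * w ∧ (∀ e ∈ E, w * e = e * w ∨ w * e * w⁻¹ = e * a) ∧
    ∃ e ∈ E, w * e * w⁻¹ = e * a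
  /-- (K3) -/
  k3 : ∀ q, q * q = 1 → (∀ e ∈ E, w * e = e * w → q * e = e * q) →
    (∀ c, c * w = w * c → (∀ e ∈ E, c * e * c⁻¹ ∈ E) →
      q * c * q⁻¹ * c⁻¹ ∈ E ∧ w * (q * c * q⁻¹ * c⁻¹) = q * c * q⁻¹ * c⁻¹ * w) →
    q * w = w * q ∨ q ∈ E

/-- facts used in Step 1 (`P = C_X(z)`) -/
structure FactsP {X : Type*} [Group X] (z : X) (E E₂ : Subgroup X) : Prop where
  zz : z * z = 1
  z1 : z ≠ 1
  zE : z ∈ E
  zE₂ : z ∈ E₂
  /-- `Z(P) = ⟨z⟩` -/
  cP : ∀ c, c * z = z * c → (∀ p, p * z = z * p → p * c = c * p) → c = 1 ∨ c = z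
  cE : ∀ e ∈ E, e * z = z * e
  cE₂ : ∀ e ∈ E₂, e * z = z * e
  nE : ∀ p, p * z = z * p → ∀ e ∈ E, p * e * p⁻¹ ∈ E
  nE₂ : ∀ p, p * z = z * p → ∀ e ∈ E₂, p * e * p⁻¹ ∈ E₂
  inf : ∀ e ∈ E, e ∈ E₂ → e = 1 ∨ e = z
  ex : ∃ b ∈ E, b ≠ 1 ∧ b ≠ z
  rot : ∀ b ∈ E, b ≠ 1 → b ≠ z → ∃ k, k * z * k⁻¹ = b ∧ k * b * k⁻¹ = z * b
  rot₂ : ∀ b ∈ E₂, b ≠ 1 → b ≠ z → ∃ k, k * z * k⁻¹ = b ∧ k * b * k⁻¹ = z * b
  /-- an automorphism of `P` fixes or swaps `E`, `E₂` -/
  autE : ∀ β : MulAut (centralizer ({z} : Set X)),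
    (∀ e : centralizer ({z} : Set X), (e : X) ∈ E → (β e : X) ∈ E) ∨
      ((∀ e : centralizer ({z} : Set X), (e : X) ∈ E → (β e : X) ∈ E₂) ∧
        (∀ e : centralizer ({z} : Set X), (e : X) ∈ E₂ → (β e : X) ∈ E))
  /-- an automorphism of `P` fixing `E` is inner -/
  autI : ∀ β : MulAut (centralizer ({z} : Set X)),
    (∀ e : centralizer ({z} : Set X), (e : X) ∈ E → (β e : X) ∈ E) → ∃ p, β = MulAut.conj p

/-- facts about the octad group `E` -/
structure FactsE {X : Type*} [Group X] (z : X) (E : Subgroup X) : Prop where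
  card : Nat.card E = 16
  EC : ∀ e ∈ E, e ≠ 1 → e ∈ Cl z
  cen : ∀ x, (∀ e ∈ E, x * e = e * x) → x ∈ E
  /-- `C_X(C_X(u, v)) = ⟨u, v⟩` -/
  dc : ∀ u ∈ E, ∀ v ∈ E, u ≠ 1 → v ≠ 1 → u ≠ v → ∀ x,
    (∀ c, c * u = u * c → c * v = v * c → x * c = c * x) → x = 1 ∨ x = u ∨ x = v ∨ x = u * v
  swap : ∀ u ∈ E, ∀ v ∈ E, u ≠ 1 → v ≠ 1 → u ≠ v → ∃ k, k * u * k⁻¹ = v ∧ k * v * k⁻¹ = u
  rot : ∀ u ∈ E, ∀ v ∈ E, u ≠ 1 → v ≠ 1 → u ≠ v → ∃ k, k * u * k⁻¹ = v ∧ k * v * k⁻¹ = u * v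
  /-- 2-transitivity -/
  two : ∀ u ∈ E, ∀ v ∈ E, ∀ u' ∈ E, ∀ v' ∈ E, u ≠ 1 → v ≠ 1 → u ≠ v → u' ≠ 1 → v' ≠ 1 → u' ≠ v' →
    ∃ k, k * u * k⁻¹ = u' ∧ k * v * k⁻¹ = v'

/-- facts about `Q = E V` -/
structure FactsQ {X : Type*} [Group X] (z : X) (E E' V : Subgroup X) (r s w w' : X) : Prop where
  VE' : V ≤ E'
  /-- `E' ∩ N(E) = V` -/
  norV : ∀ e ∈ E', (∀ x ∈ E, e * x * e⁻¹ ∈ E) → e ∈ V
  inf : ∀ v ∈ V, v ∈ E → v = 1
  tvV : ∀ v ∈ V, v ≠ 1 → Tv z E v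
  tvr : Tv z E r
  tvs : Tv z E s
  tvw : Tv z E w
  tvw' : Tv z E w'
  rs : r * s = s * r
  rsC : r * s ∈ Cl z
  /-- `C_X(C_X(r, s))` normalises `E` -/
  dcrs : ∀ x, (∀ c, c * r = r * c → c * s = s * c → x * c = c * x) → ∀ e ∈ E, x * e * x⁻¹ ∈ E
  kw : ∃ k, (∀ x, x ∈ E' ↔ k * x * k⁻¹ ∈ E) ∧ k * w * k⁻¹ = r * s
  kw' : ∃ k, (∀ x, x ∈ E' ↔ k * x * k⁻¹ ∈ E) ∧ k * w' * k⁻¹ = r * s
  /-- `N(Q) ≤ N(E)` -/
  norQ : ∀ k, (∀ x ∈ E ⊔ V, k * x * k⁻¹ ∈ E ⊔ V) → ∀ e ∈ E, k * e * k⁻¹ ∈ E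
  /-- the elements of `C ∩ (Q - E)` are `E`-conjugate to elements of `V` -/
  conjV : ∀ c ∈ E ⊔ V, c ∈ Cl z → c ∉ E → ∃ e ∈ E, e * c * e⁻¹ ∈ V
  ww' : w * w' = w' * w
  wQ : w ∉ E ⊔ V
  w'Q : w' ∉ E ⊔ V
  ww'Q : w * w' ∉ E ⊔ V

end Cfsg.Agent.OddHalf.M24

end

-- merged: Cfsg.Agent.KFacts.M24Two.Octad
section

/-!
# The octad group `E1 = ⟨X12, X13, X14, X15⟩` of `M24`: the structures `FactsE` and `Tv`

`factsE : FactsE z E1`; `tv_conj`: `Tv z E w → Tv z E (n w n⁻¹)` for `n ∈ N(E)`; `tv24`, `tv34`, `tv35 : Tv z E1 (X i j)` and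
`tvV : v ∈ ⟨X23, X24, X25⟩, v ≠ 1 → Tv z E1 v`.
-/

set_option autoImplicit false

namespace Cfsg.Agent.KFacts.M24Two.Octad

open Cfsg Cfsg.Agent.SporadicA.GolayBase Cfsg.Agent.SporadicA.GolayPerm
open Cfsg.Agent.SporadicStructure.M24El Cfsg.Agent.KFacts.M24Two.CentZ
open Cfsg.Agent.KFacts.M24Pair.Letters Cfsg.Agent.OddHalf.M24
open scoped Pointwise

/-! ### Data -/

/-- pairs of elements of `E1`: `(u, v, k)` with `k X15 k⁻¹ = u`, `k X14 k⁻¹ = v` -/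
def pairs : List (List ℕ × List ℕ × List ℕ) := [([3], [2], []), ([3], [2, 3], [9]), ([3], [1, 2], [11]), ([2],
  [2, 3], [14]), ([2, 3], [3], [15]), ([3], [1, 2, 3], [11, 9]), ([2], [3], [14, 9]), ([2, 3], [2], [15, 9]),
  ([3], [1], [7, 11]), ([3], [0, 1, 2], [10, 11]), ([2], [1, 2, 3], [14, 11]), ([2, 3], [1, 3], [15, 11]),
  ([1, 2], [1, 2, 3], [11, 14]), ([1, 2, 3], [3], [11, 15]), ([3], [1, 3], [7, 11, 9]), ([3], [0, 1, 2, 3],
  [10, 11, 9]), ([2], [1, 3], [14, 11, 9]), ([2, 3], [1, 2], [15, 11, 9]), ([1, 2], [3], [11, 14, 9]), ([1, 2,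
  3], [1, 2], [11, 15, 9]), ([3], [0, 1], [10, 7, 11]), ([2], [1], [14, 7, 11]), ([2, 3], [1], [15, 7, 11]),
  ([3], [0, 2], [4, 10, 11]), ([2], [0, 1, 2, 3], [14, 10, 11]), ([2, 3], [0, 1, 3], [15, 10, 11]), ([2], [1,
  2], [8, 14, 11]), ([1, 2], [2, 3], [11, 14, 11]), ([2, 3], [1, 2, 3], [7, 15, 11]), ([1, 2, 3], [1, 3], [11,
  15, 11]), ([1], [1, 3], [7, 11, 14]), ([0, 1, 2], [0, 1, 2, 3], [10, 11, 14]), ([1, 3], [1, 2], [15, 11,
  14]), ([1, 3], [3], [7, 11, 15]), ([0, 1, 2, 3], [3], [10, 11, 15]), ([1, 3], [2], [14, 11, 15]), ([3], [0,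
  1, 3], [10, 7, 11, 9]), ([3], [0, 2, 3], [4, 10, 11, 9]), ([2], [0, 1, 3], [14, 10, 11, 9]), ([2, 3], [0, 1,
  2], [15, 10, 11, 9]), ([1, 2], [1, 3], [11, 14, 11, 9]), ([1, 2, 3], [2], [11, 15, 11, 9]), ([1], [3], [7,
  11, 14, 9]), ([0, 1, 2], [3], [10, 11, 14, 9]), ([1, 3], [2, 3], [15, 11, 14, 9]), ([1, 3], [1], [7, 11, 15,
  9]), ([0, 1, 2, 3], [0, 1, 2], [10, 11, 15, 9]), ([1, 3], [1, 2, 3], [14, 11, 15, 9]), ([3], [0], [4, 10, 7,
  11]), ([2], [0, 1], [14, 10, 7, 11]), ([2, 3], [0, 1], [15, 10, 7, 11]), ([1, 2], [1], [11, 14, 7, 11]),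
  ([1, 2, 3], [1], [11, 15, 7, 11]), ([2], [0, 2, 3], [14, 4, 10, 11]), ([2, 3], [0, 3], [15, 4, 10, 11]),
  ([2], [0, 1, 2], [6, 14, 10, 11]), ([1, 2], [0, 2, 3], [11, 14, 10, 11]), ([2, 3], [0, 1, 2, 3], [5, 15, 10,
  11]), ([1, 2, 3], [0, 1, 3], [11, 15, 10, 11]), ([1, 2], [2], [11, 8, 14, 11]), ([1], [2, 3], [7, 11, 14,
  11]), ([1, 2, 3], [2, 3], [8, 11, 14, 11]), ([0, 1, 2], [2, 3], [10, 11, 14, 11]), ([0, 1, 2, 3], [0, 1, 3],
  [10, 11, 15, 11]), ([0, 1], [0, 1, 3], [10, 7, 11, 14]), ([1], [1, 2], [14, 7, 11, 14]), ([1], [1, 2, 3],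
  [15, 7, 11, 14]), ([0, 2], [0, 2, 3], [4, 10, 11, 14]), ([0, 1, 3], [0, 1, 2], [15, 10, 11, 14]), ([0, 1,
  3], [3], [10, 7, 11, 15]), ([0, 2, 3], [3], [4, 10, 11, 15]), ([0, 1, 3], [2], [14, 10, 11, 15]), ([1], [2],
  [8, 14, 11, 15]), ([3], [0, 3], [4, 10, 7, 11, 9]), ([2], [0, 3], [14, 4, 10, 11, 9]), ([2, 3], [0, 2], [15,
  4, 10, 11, 9]), ([1, 2], [0, 1, 3], [11, 14, 10, 11, 9]), ([1, 2, 3], [0, 2], [11, 15, 10, 11, 9]), ([0, 1,
  2], [0, 1, 3], [10, 11, 14, 11, 9]), ([0, 1, 2, 3], [2], [10, 11, 15, 11, 9]), ([0, 1], [3], [10, 7, 11, 14,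
  9]), ([0, 2], [3], [4, 10, 11, 14, 9]), ([0, 1, 3], [2, 3], [15, 10, 11, 14, 9]), ([0, 1, 3], [0, 1], [10,
  7, 11, 15, 9]), ([0, 2, 3], [0, 2], [4, 10, 11, 15, 9]), ([0, 1, 3], [0, 1, 2, 3], [14, 10, 11, 15, 9]),
  ([2], [0], [14, 4, 10, 7, 11]), ([2, 3], [0], [15, 4, 10, 7, 11]), ([1, 2], [0, 1], [11, 14, 10, 7, 11]),
  ([1, 2, 3], [0, 1], [11, 15, 10, 7, 11]), ([0, 1, 2], [0, 1], [10, 11, 14, 7, 11]), ([0, 1, 2, 3], [0, 1],
  [10, 11, 15, 7, 11]), ([2], [0, 2], [6, 14, 4, 10, 11]), ([1, 2], [0, 1, 2, 3], [11, 14, 4, 10, 11]), ([2,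
  3], [0, 2, 3], [5, 15, 4, 10, 11]), ([1, 2, 3], [0, 3], [11, 15, 4, 10, 11]), ([1, 2], [0, 2], [11, 6, 14,
  10, 11]), ([1, 2], [0, 3], [5, 11, 14, 10, 11]), ([1], [0, 2, 3], [7, 11, 14, 10, 11]), ([1, 2, 3], [0, 2,
  3], [8, 11, 14, 10, 11]), ([0, 1, 2], [0, 2, 3], [10, 11, 14, 10, 11]), ([1, 3], [0, 2], [15, 11, 14, 10,
  11]), ([1, 2, 3], [0, 1, 2, 3], [5, 11, 15, 10, 11]), ([1, 3], [0, 1, 2, 3], [7, 11, 15, 10, 11]), ([0, 1,
  2, 3], [1, 3], [10, 11, 15, 10, 11]), ([1, 3], [0, 1, 2], [14, 11, 15, 10, 11]), ([0, 1, 2], [2], [10, 11,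
  8, 14, 11]), ([0, 1], [2, 3], [10, 7, 11, 14, 11]), ([0, 1, 2, 3], [2, 3], [10, 8, 11, 14, 11]), ([0, 2],
  [2, 3], [4, 10, 11, 14, 11]), ([0, 2], [1, 2, 3], [11, 10, 11, 14, 11]), ([0, 2, 3], [0, 3], [4, 10, 11, 15,
  11]), ([0, 2, 3], [0, 1, 3], [11, 10, 11, 15, 11]), ([0], [0, 3], [4, 10, 7, 11, 14]), ([0, 1], [0, 1, 2],
  [14, 10, 7, 11, 14]), ([0, 1], [0, 1, 2, 3], [15, 10, 7, 11, 14]), ([0, 3], [0, 2], [15, 4, 10, 11, 14]),
  ([0, 1, 3], [0, 2], [11, 15, 10, 11, 14]), ([0, 3], [3], [4, 10, 7, 11, 15]), ([0, 3], [2], [14, 4, 10, 11,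
  15]), ([0, 1], [2], [6, 14, 10, 11, 15]), ([0, 1, 3], [1, 2], [11, 14, 10, 11, 15]), ([1, 2, 3], [0, 1, 2],
  [11, 15, 4, 10, 11, 9]), ([1], [0, 1, 2, 3], [7, 11, 14, 10, 11, 9]), ([0, 1, 2], [1, 3], [10, 11, 14, 10,
  11, 9]), ([1, 2, 3], [0], [5, 11, 15, 10, 11, 9]), ([0, 1, 2, 3], [0, 2], [10, 11, 15, 10, 11, 9]), ([1, 3],
  [0, 2, 3], [14, 11, 15, 10, 11, 9]), ([0, 2], [0, 3], [4, 10, 11, 14, 11, 9]), ([0, 2], [0, 1, 3], [11, 10,
  11, 14, 11, 9]), ([0, 2, 3], [2], [4, 10, 11, 15, 11, 9]), ([0, 2, 3], [1, 2], [11, 10, 11, 15, 11, 9]),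
  ([0], [3], [4, 10, 7, 11, 14, 9]), ([0, 3], [2, 3], [15, 4, 10, 11, 14, 9]), ([0, 1, 3], [1, 2, 3], [11, 15,
  10, 11, 14, 9]), ([0, 3], [0], [4, 10, 7, 11, 15, 9]), ([0, 3], [0, 2, 3], [14, 4, 10, 11, 15, 9]), ([0, 1,
  3], [0, 2, 3], [11, 14, 10, 11, 15, 9]), ([1, 2], [0], [11, 14, 4, 10, 7, 11]), ([1, 2], [0, 1, 2], [5, 11,
  14, 10, 7, 11]), ([1], [0, 1, 2], [7, 11, 14, 10, 7, 11]), ([0, 1, 2], [1], [10, 11, 14, 10, 7, 11]), ([1,
  3], [0, 1], [15, 11, 14, 10, 7, 11]), ([0, 1, 2, 3], [1], [10, 11, 15, 10, 7, 11]), ([0, 2], [0], [4, 10,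
  11, 14, 7, 11]), ([0, 2], [0, 1], [11, 10, 11, 14, 7, 11]), ([0, 2, 3], [0], [4, 10, 11, 15, 7, 11]), ([0,
  2, 3], [0, 1], [11, 10, 11, 15, 7, 11]), ([1], [0, 1, 3], [7, 11, 14, 4, 10, 11]), ([0, 1, 2], [1, 2, 3],
  [10, 11, 14, 4, 10, 11]), ([1, 3], [0, 3], [7, 11, 15, 4, 10, 11]), ([0, 1, 2, 3], [0, 3], [10, 11, 15, 4,
  10, 11]), ([1], [0, 2], [7, 11, 6, 14, 10, 11]), ([0, 1, 2], [0, 2], [10, 11, 6, 14, 10, 11]), ([1], [0, 3],
  [7, 5, 11, 14, 10, 11]), ([0, 1, 2], [0, 3], [10, 5, 11, 14, 10, 11]), ([0, 1], [0, 2, 3], [10, 7, 11, 14,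
  10, 11]), ([0, 1, 2, 3], [0, 2, 3], [10, 8, 11, 14, 10, 11]), ([0, 2], [0, 1, 2, 3], [4, 10, 11, 14, 10,
  11]), ([0, 1], [0, 3], [5, 10, 11, 14, 10, 11]), ([1, 3], [0], [5, 15, 11, 14, 10, 11]), ([1, 3], [0, 1, 3],
  [7, 5, 11, 15, 10, 11]), ([0, 1, 2, 3], [1, 2, 3], [10, 5, 11, 15, 10, 11]), ([0, 2, 3], [1, 3], [4, 10, 11,
  15, 10, 11]), ([0, 1, 3], [1, 3], [5, 10, 11, 15, 10, 11]), ([0, 2], [2], [4, 10, 11, 8, 14, 11]), ([0, 2],
  [1, 2], [11, 10, 11, 8, 14, 11]), ([0], [2, 3], [4, 10, 7, 11, 14, 11]), ([0, 1], [1, 2, 3], [11, 10, 7, 11,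
  14, 11]), ([0, 2, 3], [2, 3], [4, 10, 8, 11, 14, 11]), ([0, 2, 3], [1, 2, 3], [11, 10, 8, 11, 14, 11]),
  ([0], [1, 2, 3], [5, 11, 10, 11, 14, 11]), ([0, 2], [1, 3], [7, 11, 10, 11, 14, 11]), ([0, 3], [1, 2], [15,
  11, 10, 11, 14, 11]), ([0, 3], [0, 1, 2, 3], [5, 11, 10, 11, 15, 11]), ([0, 2, 3], [0, 1, 2, 3], [7, 11, 10,
  11, 15, 11]), ([0, 3], [0, 1, 2], [14, 11, 10, 11, 15, 11]), ([0], [0, 2], [14, 4, 10, 7, 11, 14]), ([0],
  [0, 2, 3], [15, 4, 10, 7, 11, 14]), ([0, 1], [0, 2], [11, 14, 10, 7, 11, 14]), ([0, 1, 2, 3], [0], [5, 11,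
  15, 10, 11, 14]), ([0], [2], [6, 14, 4, 10, 11, 15]), ([0, 1], [1, 2], [11, 6, 14, 10, 11, 15]), ([0, 1, 2,
  3], [1, 2], [5, 11, 14, 10, 11, 15]), ([0, 1], [1, 3], [5, 10, 11, 14, 10, 11, 9]), ([0, 2, 3], [0, 1, 2],
  [4, 10, 11, 15, 10, 11, 9]), ([0, 1, 3], [0], [5, 10, 11, 15, 10, 11, 9]), ([0], [0, 1, 2, 3], [5, 11, 10,
  11, 14, 11, 9]), ([0, 2, 3], [1], [7, 11, 10, 11, 15, 11, 9]), ([0, 3], [1, 2, 3], [14, 11, 10, 11, 15, 11,
  9]), ([1], [0], [7, 11, 14, 4, 10, 7, 11]), ([0, 1, 2], [0], [10, 11, 14, 4, 10, 7, 11]), ([1], [0, 1], [7,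
  5, 11, 14, 10, 7, 11]), ([0, 1, 2], [1, 2], [10, 5, 11, 14, 10, 7, 11]), ([0, 2], [1], [4, 10, 11, 14, 10,
  7, 11]), ([0, 1], [1], [5, 10, 11, 14, 10, 7, 11]), ([0, 1, 3], [1], [15, 10, 11, 14, 10, 7, 11]), ([0], [0,
  1, 2], [5, 11, 10, 11, 14, 7, 11]), ([0, 2], [0, 1, 2], [7, 11, 10, 11, 14, 7, 11]), ([0, 3], [0, 1], [15,
  11, 10, 11, 14, 7, 11]), ([0, 1, 3], [0, 3], [10, 7, 11, 15, 4, 10, 11]), ([0, 1], [0], [5, 10, 11, 6, 14,
  10, 11]), ([0], [0, 1, 3], [5, 4, 10, 11, 14, 10, 11]), ([0, 3], [1, 3], [5, 4, 10, 11, 15, 10, 11]), ([0],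
  [1, 2], [5, 11, 10, 11, 8, 14, 11]), ([0], [1, 3], [7, 5, 11, 10, 11, 14, 11]), ([0, 3], [1], [7, 15, 11,
  10, 11, 14, 11]), ([0, 3], [0, 1, 3], [7, 5, 11, 10, 11, 15, 11]), ([0], [1], [5, 4, 10, 11, 14, 10, 7,
  11]), ([0], [0, 1], [7, 5, 11, 10, 11, 14, 7, 11])]

/-- elements of `⟨X23, X24, X25⟩`: `(v, k)` with `k X24 k⁻¹ = v` -/
def tV : List (List ℕ × List ℕ) := [([4], [7, 11]), ([5], []), ([6], [15]), ([4, 5], [11]), ([4, 6], [15,
  11]), ([5, 6], [9]), ([4, 5, 6], [11, 9])]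

/-! ### The normaliser of `E1` -/

theorem norm14 : chkN [0, 1, 2, 3] 14 [[0], [1], [2, 3], [2]] = true := by decide +kernel

theorem norm15 : chkN [0, 1, 2, 3] 15 [[0], [1], [3], [2, 3]] = true := by decide +kernel

/-- the letters `0, …, 11, 14, 15` normalise `E1` -/
theorem xx_norm {c : ℕ} (hc : c < 12 ∨ c = 14 ∨ c = 15) {x : M24} (hx : x ∈ E1) :
    xx c * x * (xx c)⁻¹ ∈ E1 := by
  rcases hc with hc | rfl | rfl
  · exact E1_normal (xx_mem_C hc) hx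
  · exact conj_mem_cl (conj_of_chkN norm14) hx
  · exact conj_mem_cl (conj_of_chkN norm15) hx

/-- the normaliser of `E1` -/
noncomputable def N : Subgroup M24 := Subgroup.normalizer (E1 : Set M24)

theorem xx_mem_N {c : ℕ} (hc : c < 12 ∨ c = 14 ∨ c = 15) : xx c ∈ N := by
  apply Subgroup.mem_normalizer_fintype
  intro y hy
  exact xx_norm hc hy

theorem N_conj {n : M24} (hn : n ∈ N) {x : M24} (hx : x ∈ E1) : n * x * n⁻¹ ∈ E1 :=
  (Subgroup.mem_normalizer_iff.1 hn x).1 hx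

theorem C_le_N : C ≤ N := C_le fun _ hc => xx_mem_N (Or.inl hc)

/-- Boolean form of the condition on a letter -/
def nl (k : ℕ) : Bool := Nat.blt k 12 || Nat.beq k 14 || Nat.beq k 15

theorem ev_mem_N {w : List ℕ} (h : (w.all nl) = true) : ev w ∈ N := by
  apply ev_mem
  intro k hk
  have h1 := List.all_eq_true.1 h k hk
  unfold nl at h1
  rw [Bool.or_eq_true, Bool.or_eq_true, Nat.blt_eq, Nat.beq_eq, Nat.beq_eq, or_assoc] at h1
  exact xx_mem_N h1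

/-! ### Pairs of elements of `E1` -/

theorem pairs_ok : (pairs.all fun p => weqb (p.2.2 ++ [3]) (p.1 ++ p.2.2) &&
    weqb (p.2.2 ++ [2]) (p.2.1 ++ p.2.2) && p.2.2.all nl) = true := by decide +kernel

theorem pairs_all : ∀ u ∈ LE1, ∀ v ∈ LE1, u = [] ∨ v = [] ∨ u = v ∨ ∃ p ∈ pairs, p.1 = u ∧ p.2.1 = v := by
  decide +kernel

theorem exists_pair {u v : M24} (hu : u ∈ E1) (hv : v ∈ E1) (hu1 : u ≠ 1) (hv1 : v ≠ 1) (huv : u ≠ v) :
    ∃ k ∈ N, k * z * k⁻¹ = u ∧ k * xx 2 * k⁻¹ = v := by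
  obtain ⟨a, ha, rfl⟩ := mem_E1.1 hu
  obtain ⟨b, hb, rfl⟩ := mem_E1.1 hv
  rcases pairs_all a ha b hb with rfl | rfl | rfl | ⟨p, hp, rfl, rfl⟩
  · exact absurd ev_nil hu1
  · exact absurd ev_nil hv1
  · exact absurd rfl huv
  · have h := List.all_eq_true.1 pairs_ok p hp
    rw [Bool.and_eq_true, Bool.and_eq_true] at h
    refine ⟨ev p.2.2, ev_mem_N h.2, ?_, ?_⟩
    · have := conj_of_weq (c := p.2.2) (r := [3]) h.1.1
      rwa [ev_singleton] at this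
    · have := conj_of_weq (c := p.2.2) (r := [2]) h.1.2
      rwa [ev_singleton] at this

theorem two {u v u' v' : M24} (hu : u ∈ E1) (hv : v ∈ E1) (hu' : u' ∈ E1) (hv' : v' ∈ E1) (hu1 : u ≠ 1)
    (hv1 : v ≠ 1) (huv : u ≠ v) (hu1' : u' ≠ 1) (hv1' : v' ≠ 1) (huv' : u' ≠ v') :
    ∃ k ∈ N, k * u * k⁻¹ = u' ∧ k * v * k⁻¹ = v' := by
  obtain ⟨a, ha, ha1, ha2⟩ := exists_pair hu hv hu1 hv1 huv
  obtain ⟨b, hb, hb1, hb2⟩ := exists_pair hu' hv' hu1' hv1' huv'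
  refine ⟨b * a⁻¹, N.mul_mem hb (N.inv_mem ha), ?_, ?_⟩
  · rw [← ha1, ← hb1]; group
  · rw [← ha2, ← hb2]; group

theorem x14_mem : xx 2 ∈ E1 := xx_mem (by decide)

theorem z_mem_E1 : z ∈ E1 := xx_mem (r := 3) (by decide)

theorem x14_ne : xx 2 ≠ 1 := X_ne_one (i := 1) (j := 4) (by norm_num)

theorem z_ne_x14 : z ≠ xx 2 := by
  rw [z_eq, ← ev_singleton 3, ← ev_singleton 2]
  exact wne (by decide +kernel)

theorem card_E1 : Nat.card E1 = 16 := by
  classical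
  have h1 : (E1 : Set M24) = ((LE1.toFinset.image ev : Finset M24) : Set M24) := by
    ext x
    rw [SetLike.mem_coe, mem_E1, Finset.mem_coe, Finset.mem_image]
    constructor
    · rintro ⟨w, hw, rfl⟩; exact ⟨w, List.mem_toFinset.2 hw, rfl⟩
    · rintro ⟨w, hw, rfl⟩; exact ⟨w, List.mem_toFinset.1 hw, rfl⟩
  have h2 : Nat.card E1 = (E1 : Set M24).ncard := rfl
  have h3 : ∀ u ∈ LE1, ∀ v ∈ LE1, u = v ∨ (List.range 24).any (fun i =>
    !(Nat.beq (papp (prodW gx u) i) (papp (prodW gx v) i))) = true := by decide +kernel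
  rw [h2, h1, Set.ncard_coe_finset, Finset.card_image_of_injOn]
  · decide
  · intro u hu v hv h
    simp only [Finset.mem_coe, List.mem_toFinset] at hu hv
    rcases h3 u hu v hv with h4 | h4
    · exact h4
    · exact absurd h (wne h4)

theorem EC {e : M24} (he : e ∈ E1) (h1 : e ≠ 1) : e ∈ Cl z := by
  by_cases h : e = xx 2
  · obtain ⟨k, -, hk, -⟩ := exists_pair he z_mem_E1 h1 z_ne (by rw [h]; exact z_ne_x14.symm)
    exact ⟨k, hk⟩
  · obtain ⟨k, -, hk, -⟩ := exists_pair he x14_mem h1 x14_ne h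
    exact ⟨k, hk⟩

/-- the double centraliser of `⟨X14, X15⟩` -/
theorem dc0 {x : M24} (hx : ∀ c : M24, c * z = z * c → c * xx 2 = xx 2 * c → x * c = c * x) :
    x = 1 ∨ x = z ∨ x = xx 2 ∨ x = z * xx 2 := by
  have h1 : ((List.range 11).all fun c => Nat.beq c 9 || (weqb [c, 3] [3, c] && weqb [c, 2] [2, c])) = true := by
    decide +kernel
  have h2 : ∀ c < 11, c ≠ 9 → x * xx c = xx c * x := by
    intro c hc hc9
    have h3 := List.all_eq_true.1 h1 c (List.mem_range.2 hc)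
    rw [Bool.or_eq_true, Bool.and_eq_true] at h3
    rcases h3 with h3 | ⟨h3, h4⟩
    · exact absurd (Nat.eq_of_beq_eq_true h3) hc9
    · have h5 := weq h3
      have h6 := weq h4
      simp only [ev_cons, ev_nil, mul_one] at h5 h6
      exact hx _ h5 h6
  have h3 : x ∈ E1 := mem_E1_of_comm (by
    intro r hr
    have : r < 11 ∧ r ≠ 9 := by revert r; decide
    exact h2 r this.1 this.2)
  obtain ⟨w, hw, rfl⟩ := mem_E1.1 h3
  have h4 : ∀ w ∈ LE1, w = [] ∨ w = [3] ∨ w = [2] ∨ w = [2, 3] ∨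
      (List.range 24).any (fun i => !(Nat.beq (papp (prodW gx (w ++ [4])) i) (papp (prodW gx (4 :: w)) i))) = true ∨
      (List.range 24).any (fun i => !(Nat.beq (papp (prodW gx (w ++ [10])) i) (papp (prodW gx (10 :: w)) i)))
        = true := by
    decide +kernel
  rcases h4 w hw with rfl | rfl | rfl | rfl | h | h
  · exact Or.inl ev_nil
  · exact Or.inr (Or.inl (ev_singleton 3))
  · exact Or.inr (Or.inr (Or.inl (ev_singleton 2)))
  · refine Or.inr (Or.inr (Or.inr ?_))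
    have h5 := weq (u := [2, 3]) (v := [3, 2]) (by decide +kernel)
    rw [h5, ev_cons, ev_singleton, z_eq]
  · exfalso
    have h5 := wne h
    rw [ev_append, ev_singleton, ev_cons] at h5
    exact h5 (h2 4 (by norm_num) (by norm_num))
  · exfalso
    have h5 := wne h
    rw [ev_append, ev_singleton, ev_cons] at h5
    exact h5 (h2 10 (by norm_num) (by norm_num))

theorem dc {u v : M24} (hu : u ∈ E1) (hv : v ∈ E1) (hu1 : u ≠ 1) (hv1 : v ≠ 1) (huv : u ≠ v) {x : M24}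
    (hx : ∀ c : M24, c * u = u * c → c * v = v * c → x * c = c * x) :
    x = 1 ∨ x = u ∨ x = v ∨ x = u * v := by
  obtain ⟨k, -, hk1, hk2⟩ := exists_pair hu hv hu1 hv1 huv
  have key : ∀ a b : M24, k * a * k⁻¹ = b → ∀ c : M24, c * a = a * c → k * c * k⁻¹ * b = b * (k * c * k⁻¹) := by
    intro a b h c hc
    rw [← h]
    calc k * c * k⁻¹ * (k * a * k⁻¹) = k * (c * a) * k⁻¹ := by group
      _ = k * (a * c) * k⁻¹ := by rw [hc]
      _ = k * a * k⁻¹ * (k * c * k⁻¹) := by group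
  have h1 := dc0 (x := k⁻¹ * x * k) (by
    intro c hc1 hc2
    have h2 := hx _ (key z u hk1 c hc1) (key (xx 2) v hk2 c hc2)
    calc k⁻¹ * x * k * c = k⁻¹ * (x * (k * c * k⁻¹)) * k := by group
      _ = k⁻¹ * (k * c * k⁻¹ * x) * k := by rw [h2]
      _ = c * (k⁻¹ * x * k) := by group)
  have h3 : x = k * (k⁻¹ * x * k) * k⁻¹ := by group
  rcases h1 with h | h | h | h
  · left; rw [h3, h]; group
  · right; left; rw [h3, h, hk1]
  · right; right; left; rw [h3, h, hk2]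
  · right; right; right
    rw [h3, h, ← hk1, ← hk2]; group

/-- **The facts about the octad group.** -/
theorem factsE : FactsE z E1 where
  card := card_E1
  EC := fun e he h1 => EC he h1
  cen := fun x hx => mem_E1_of_comm fun r hr => hx _ (xx_mem hr)
  dc := fun u hu v hv hu1 hv1 huv x hx => dc hu hv hu1 hv1 huv hx
  swap := fun u hu v hv hu1 hv1 huv => by
    obtain ⟨k, -, h1, h2⟩ := two hu hv hv hu hu1 hv1 huv hv1 hu1 huv.symm
    exact ⟨k, h1, h2⟩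
  rot := fun u hu v hv hu1 hv1 huv => by
    have huu : u * u = 1 := by
      obtain ⟨k, hk⟩ := EC hu hu1
      rw [← hk]
      calc k * z * k⁻¹ * (k * z * k⁻¹) = k * (z * z) * k⁻¹ := by group
        _ = 1 := by rw [zz]; group
    obtain ⟨k, -, h1, h2⟩ := two hu hv hv (E1.mul_mem hu hv) hu1 hv1 huv hv1 (fun h => huv (by
      rw [mul_eq_one_iff_eq_inv] at h
      rw [← mul_right_inj u, huu, h, inv_mul_cancel])) (fun h => hu1 (mul_eq_right.1 h.symm))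
    exact ⟨k, h1, h2⟩
  two := fun u hu v hv u' hu' v' hv' h1 h2 h3 h4 h5 h6 => by
    obtain ⟨k, -, hk⟩ := two hu hv hu' hv' h1 h2 h3 h4 h5 h6
    exact ⟨k, hk⟩

/-! ### Transvections -/

theorem Cl_conj {X : Type*} [Group X] {z u : X} (h : u ∈ Cl z) (n : X) : n * u * n⁻¹ ∈ Cl z := by
  obtain ⟨k, rfl⟩ := h
  exact ⟨n * k, by group⟩

/-- `Tv` is invariant under `N(E)` -/
theorem tv_conj {X : Type*} [Group X] {z : X} {E : Subgroup X} {w : X} (h : Tv z E w) {n : X}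
    (hn : ∀ e ∈ E, n * e * n⁻¹ ∈ E) (hn' : ∀ e ∈ E, n⁻¹ * e * n ∈ E) : Tv z E (n * w * n⁻¹) where
  wC := Cl_conj h.wC n
  wE := fun hE => h.wE (by
    have := hn' _ hE
    have e : n⁻¹ * (n * w * n⁻¹) * n = w := by group
    rwa [e] at this)
  nor := fun e he => by
    have h1 := hn _ (h.nor _ (hn' e he))
    have e1 : n * (w * (n⁻¹ * e * n) * w⁻¹) * n⁻¹ = n * w * n⁻¹ * e * (n * w * n⁻¹)⁻¹ := by group
    rwa [e1] at h1
  tv := by
    obtain ⟨a, ha, ha1, ha2, ha3, e0, he0, he1⟩ := h.tv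
    refine ⟨n * a * n⁻¹, hn a ha, ?_, ?_, ?_, n * e0 * n⁻¹, hn _ he0, ?_⟩
    · intro h1
      apply ha1
      rw [mul_inv_eq_one] at h1
      exact mul_eq_left.1 h1
    · calc n * w * n⁻¹ * (n * a * n⁻¹) = n * (w * a) * n⁻¹ := by group
        _ = n * (a * w) * n⁻¹ := by rw [ha2]
        _ = _ := by group
    · intro e he
      rcases ha3 _ (hn' e he) with h1 | h1
      · left
        calc n * w * n⁻¹ * e = n * (w * (n⁻¹ * e * n)) * n⁻¹ := by group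
          _ = n * (n⁻¹ * e * n * w) * n⁻¹ := by rw [h1]
          _ = _ := by group
      · right
        calc n * w * n⁻¹ * e * (n * w * n⁻¹)⁻¹ = n * (w * (n⁻¹ * e * n) * w⁻¹) * n⁻¹ := by group
          _ = n * (n⁻¹ * e * n * a) * n⁻¹ := by rw [h1]
          _ = _ := by group
    · calc n * w * n⁻¹ * (n * e0 * n⁻¹) * (n * w * n⁻¹)⁻¹ = n * (w * e0 * w⁻¹) * n⁻¹ := by group
        _ = n * (e0 * a) * n⁻¹ := by rw [he1]
        _ = _ := by group
  k3 := by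
    intro q hq hqe hqc
    have h1 := h.k3 (n⁻¹ * q * n) (by
        calc n⁻¹ * q * n * (n⁻¹ * q * n) = n⁻¹ * (q * q) * n := by group
          _ = 1 := by rw [hq]; group) (by
        intro e he hwe
        have h2 := hqe _ (hn e he) (by
          calc n * w * n⁻¹ * (n * e * n⁻¹) = n * (w * e) * n⁻¹ := by group
            _ = n * (e * w) * n⁻¹ := by rw [hwe]
            _ = _ := by group)
        calc n⁻¹ * q * n * e = n⁻¹ * (q * (n * e * n⁻¹)) * n := by group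
          _ = n⁻¹ * (n * e * n⁻¹ * q) * n := by rw [h2]
          _ = _ := by group) (by
        intro c hc hcE
        have h2 := hqc (n * c * n⁻¹) (by
          calc n * c * n⁻¹ * (n * w * n⁻¹) = n * (c * w) * n⁻¹ := by group
            _ = n * (w * c) * n⁻¹ := by rw [hc]
            _ = _ := by group) (by
          intro e he
          have h3 := hn _ (hcE _ (hn' e he))
          have e1 : n * (c * (n⁻¹ * e * n) * c⁻¹) * n⁻¹ = n * c * n⁻¹ * e * (n * c * n⁻¹)⁻¹ := by group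
          rwa [e1] at h3)
        obtain ⟨h3, h4⟩ := h2
        have e2 : q * (n * c * n⁻¹) * q⁻¹ * (n * c * n⁻¹)⁻¹ =
            n * (n⁻¹ * q * n * c * (n⁻¹ * q * n)⁻¹ * c⁻¹) * n⁻¹ := by group
        rw [e2] at h3 h4
        refine ⟨?_, ?_⟩
        · have h5 := hn' _ h3
          have e3 : n⁻¹ * (n * (n⁻¹ * q * n * c * (n⁻¹ * q * n)⁻¹ * c⁻¹) * n⁻¹) * n =
            n⁻¹ * q * n * c * (n⁻¹ * q * n)⁻¹ * c⁻¹ := by group
          rwa [e3] at h5
        · have h5 : n * w * n⁻¹ * (n * (n⁻¹ * q * n * c * (n⁻¹ * q * n)⁻¹ * c⁻¹) * n⁻¹) =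
            n * (w * (n⁻¹ * q * n * c * (n⁻¹ * q * n)⁻¹ * c⁻¹)) * n⁻¹ := by group
          have h6 : n * (n⁻¹ * q * n * c * (n⁻¹ * q * n)⁻¹ * c⁻¹) * n⁻¹ * (n * w * n⁻¹) =
            n * (n⁻¹ * q * n * c * (n⁻¹ * q * n)⁻¹ * c⁻¹ * w) * n⁻¹ := by group
          rw [h5, h6] at h4
          exact mul_left_cancel (mul_right_cancel h4))
    rcases h1 with h1 | h1
    · left
      calc q * (n * w * n⁻¹) = n * (n⁻¹ * q * n * w) * n⁻¹ := by group
        _ = n * (w * (n⁻¹ * q * n)) * n⁻¹ := by rw [h1]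
        _ = _ := by group
    · right
      have h2 := hn _ h1
      have e1 : n * (n⁻¹ * q * n) * n⁻¹ = q := by group
      rwa [e1] at h2

/-- the elements of `V = ⟨X23, X24, X25⟩` -/
def LV : List (List ℕ) := [[], [4], [5], [6], [4, 5], [4, 6], [5, 6], [4, 5, 6]]

theorem mem_V {x : M24} : x ∈ cl [4, 5, 6] ↔ ∃ w ∈ LV, x = ev w := by
  constructor
  · exact mem_cl_list (by decide) (by decide) (by decide +kernel)
  · rintro ⟨w, hw, rfl⟩
    have h : ∀ w ∈ LV, ∀ k ∈ w, k ∈ [4, 5, 6] := by decide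
    exact ev_mem_cl (h w hw)

/-- Boolean form of `ev u ≠ ev v` -/
def wneb (u v : List ℕ) : Bool :=
  (List.range 24).any fun i => !(Nat.beq (papp (prodW gx u) i) (papp (prodW gx v) i))

theorem ne_of_wneb {u v : List ℕ} (h : wneb u v = true) : ev u ≠ ev v := wne h

/-- an element centralising `⟨X13, X14, X15⟩` is `v e`, `v ∈ ⟨X23, X24, X25⟩`, `e ∈ E1` -/
theorem cent_A {q : M24} (hq : ∀ r ∈ [1, 2, 3], q * xx r = xx r * q) :
    ∃ v ∈ LV, ∃ e ∈ LE1, q = ev (v ++ e) := by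
  have hqC : q ∈ C := mem_C.2 (hq 3 (by decide))
  obtain ⟨u, hu, hu'⟩ := mem_E1.1 (E1_normal hqC (xx_mem (rs := [0, 1, 2, 3]) (r := 0) (by decide)))
  have h1 : ∀ u ∈ LE1, ((u.all fun k => Nat.beq k 1 || Nat.beq k 2 || Nat.beq k 3) && wneb [0] u) = true ∨
      ∃ v ∈ LV, weqb (v ++ [0]) (u ++ v) = true := by decide +kernel
  rcases h1 u hu with h1 | ⟨v, hv, h1⟩
  · exfalso
    rw [Bool.and_eq_true] at h1
    apply ne_of_wneb h1.2
    have h2 : ev u ∈ Subgroup.centralizer ({q} : Set M24) := by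
      apply ev_mem
      intro k hk
      have h3 := List.all_eq_true.1 h1.1 k hk
      rw [Bool.or_eq_true, Bool.or_eq_true, Nat.beq_eq, Nat.beq_eq, Nat.beq_eq] at h3
      rw [Subgroup.mem_centralizer_singleton_iff]
      rcases h3 with (rfl | rfl) | rfl
      · exact (hq 1 (by decide)).symm
      · exact (hq 2 (by decide)).symm
      · exact (hq 3 (by decide)).symm
    have h3 := Subgroup.mem_centralizer_singleton_iff.1 h2
    rw [ev_singleton]
    have h4 : q * xx 0 * q⁻¹ = q * ev u * q⁻¹ := by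
      rw [hu', ← h3, mul_inv_cancel_right]
    exact mul_left_cancel (mul_right_cancel h4)
  · have h2 := conj_of_weq h1
    rw [ev_singleton, ← hu'] at h2
    have h3 : (ev v)⁻¹ * q ∈ E1 := by
      apply mem_E1_of_comm
      intro r hr
      have hr' : r = 0 ∨ r ∈ [1, 2, 3] := by revert r; decide
      rcases hr' with rfl | hr'
      · have h4 : ev v * xx 0 * (ev v)⁻¹ * q = q * xx 0 := by rw [h2]; group
        calc (ev v)⁻¹ * q * xx 0 = (ev v)⁻¹ * (q * xx 0) := by group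
          _ = (ev v)⁻¹ * (ev v * xx 0 * (ev v)⁻¹ * q) := by rw [h4]
          _ = xx 0 * ((ev v)⁻¹ * q) := by group
      · have h5 : ∀ v ∈ LV, ∀ r ∈ [1, 2, 3], weqb (v ++ [r]) (r :: v) = true := by decide +kernel
        have h6 := weq (h5 v hv r hr')
        rw [ev_append, ev_singleton, ev_cons] at h6
        have h7 : (ev v)⁻¹ * xx r = xx r * (ev v)⁻¹ := by
          rw [inv_mul_eq_iff_eq_mul, ← mul_assoc, h6, mul_inv_cancel_right]
        calc (ev v)⁻¹ * q * xx r = (ev v)⁻¹ * (q * xx r) := by group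
          _ = (ev v)⁻¹ * (xx r * q) := by rw [hq r hr']
          _ = (ev v)⁻¹ * xx r * q := by group
          _ = xx r * ((ev v)⁻¹ * q) := by rw [h7]; group
    obtain ⟨e, he, h4⟩ := mem_E1.1 h3
    refine ⟨v, hv, e, he, ?_⟩
    rw [ev_append, ← h4, mul_inv_cancel_left]

theorem xx_Cl {k : ℕ} (h : (Nat.beq (prodW gx [k, k]) idP && wneb [k] [] &&
    (List.range 24).any fun i => Nat.beq (papp (prodW gx [k]) i) i) = true) : xx k ∈ Cl z := by
  rw [Bool.and_eq_true, Bool.and_eq_true, List.any_eq_true] at h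
  obtain ⟨⟨h1, h2⟩, i, hi, h3⟩ := h
  have h4 : xx k * xx k = 1 := by
    have h5 := weq (u := [k, k]) (v := []) h1
    simpa only [ev_cons, ev_nil, mul_one] using h5
  have h5 : xx k ≠ 1 := by
    have := ne_of_wneb h2
    rwa [ev_singleton, ev_nil] at this
  have hi' := List.mem_range.1 hi
  have h6 : xx k • pt i = pt i := by
    rw [← ev_singleton, ev_smul _ hi', Nat.eq_of_beq_eq_true h3]
  obtain ⟨g, hg⟩ := Count.conj_z_of_fix h4 h5 h6
  obtain ⟨g', hg'⟩ := conj_z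
  refine ⟨g⁻¹ * g', ?_⟩
  have e1 : g⁻¹ * g' * z * (g⁻¹ * g')⁻¹ = g⁻¹ * (g' * z * g'⁻¹) * g := by group
  rw [e1, hg', ← hg]; group

/-- `X24` is a transvection on the octad group -/
theorem tv24 : Tv z E1 (xx 5) where
  wC := xx_Cl (by decide +kernel)
  wE := by
    intro h
    obtain ⟨w, hw, h1⟩ := mem_E1.1 h
    have h2 : ∀ w ∈ LE1, wneb [5] w = true := by decide +kernel
    apply ne_of_wneb (h2 w hw)
    rw [ev_singleton, h1]
  nor := fun e he => xx_norm (Or.inl (by norm_num)) he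
  tv := by
    refine ⟨xx 2, x14_mem, x14_ne, ?_, ?_, xx 0, xx_mem (by decide), ?_⟩
    · have h := weq (u := [5, 2]) (v := [2, 5]) (by decide +kernel)
      simpa only [ev_cons, ev_nil, mul_one] using h
    · intro e he
      obtain ⟨w, hw, rfl⟩ := mem_E1.1 he
      have h2 : ∀ w ∈ LE1, weqb (5 :: w) (w ++ [5]) = true ∨ weqb (5 :: w) (w ++ [2] ++ [5]) = true := by
        decide +kernel
      rcases h2 w hw with h | h
      · left
        have h3 := weq h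
        rwa [ev_cons, ev_append, ev_singleton] at h3
      · right
        have h3 := weq h
        rw [ev_cons, ev_append, ev_append, ev_singleton, ev_singleton] at h3
        rw [h3, mul_inv_cancel_right]
    · have h := weq (u := [5, 0]) (v := [0, 2, 5]) (by decide +kernel)
      simp only [ev_cons, ev_nil, mul_one] at h
      rw [h]; group
  k3 := by
    intro q hq hqe _
    have h1 : ∀ r ∈ [1, 2, 3], weqb [5, r] [r, 5] = true := by decide +kernel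
    obtain ⟨v, hv, e, he, rfl⟩ := cent_A (q := q) (by
      intro r hr
      have hr' : r ∈ [0, 1, 2, 3] := by revert r; decide
      refine hqe _ (xx_mem hr') ?_
      have h := weq (h1 r hr)
      simpa only [ev_cons, ev_nil, mul_one] using h)
    have h2 : ∀ v ∈ LV, ∀ e ∈ LE1, v = [] ∨ wneb ((v ++ e) ++ (v ++ e)) [] = true ∨
        weqb ((v ++ e) ++ [5]) (5 :: (v ++ e)) = true := by decide +kernel
    rcases h2 v hv e he with rfl | h | h
    · right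
      rw [List.nil_append]
      exact mem_E1.2 ⟨e, he, rfl⟩
    · exfalso
      apply ne_of_wneb h
      rw [ev_append, hq, ev_nil]
    · left
      have h3 := weq h
      rwa [ev_append, ev_singleton, ev_cons] at h3

theorem tv_of_word {k v : List ℕ} (hk : (k.all nl) = true) (h : weqb (k ++ [5]) (v ++ k) = true) :
    Tv z E1 (ev v) := by
  have h1 := conj_of_weq h
  rw [ev_singleton] at h1
  rw [← h1]
  have hN := ev_mem_N hk
  refine tv_conj tv24 (fun e he => N_conj hN he) fun e he => ?_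
  have := N_conj (N.inv_mem hN) he
  rwa [inv_inv] at this

/-- `X34` is a transvection on the octad group -/
theorem tv34 : Tv z E1 (xx 7) := by
  have h := tv_of_word (k := [4, 10]) (v := [7]) (by decide) (by decide +kernel)
  rwa [ev_singleton] at h

/-- `X35` is a transvection on the octad group -/
theorem tv35 : Tv z E1 (xx 8) := by
  have h := tv_of_word (k := [15, 4, 10]) (v := [8]) (by decide) (by decide +kernel)
  rwa [ev_singleton] at h

/-- `X45` is a transvection on the octad group -/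
theorem tv45 : Tv z E1 (xx 9) := by
  have h := tv_of_word (k := [7, 11, 15, 4, 10]) (v := [9]) (by decide) (by decide +kernel)
  rwa [ev_singleton] at h

theorem tV_ok : (tV.all fun p => weqb (p.2 ++ [5]) (p.1 ++ p.2) && p.2.all nl) = true := by decide +kernel

/-- the elements of `⟨X23, X24, X25⟩` are transvections on the octad group -/
theorem tvV {v : M24} (hv : v ∈ cl [4, 5, 6]) (h1 : v ≠ 1) : Tv z E1 v := by
  obtain ⟨w, hw, rfl⟩ := mem_V.1 hv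
  have h2 : ∀ w ∈ LV, w = [] ∨ ∃ p ∈ tV, p.1 = w := by decide
  rcases h2 w hw with rfl | ⟨p, hp, rfl⟩
  · exact absurd ev_nil h1
  · have h3 := List.all_eq_true.1 tV_ok p hp
    rw [Bool.and_eq_true] at h3
    exact tv_of_word h3.2 h3.1

end Cfsg.Agent.KFacts.M24Two.Octad

end

-- merged: Cfsg.Agent.KFacts.M24Two.QGroup
section

/-!
# `Q = O₂(C(z))` for the central involution `z` of `M24`

`Q = cl [0, 1, 2, 3, 6, 8, 9] = E1 E2` is extraspecial: `large : Large Q z`. `mem_words`: an element of `C(z)` centralising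
`E1` modulo `⟨z⟩` is `ev (f ++ e)`, `f ∈ LF`, `e ∈ LE1`; if it has a fixed point then `f = []` or `e ∈ {[], [3]}`
(`words_of_fix`).
-/

set_option autoImplicit false

namespace Cfsg.Agent.KFacts.M24Two.QGroup

open Cfsg Cfsg.Agent.SporadicA.GolayBase Cfsg.Agent.SporadicA.GolayPerm
open Cfsg.Agent.SporadicStructure.M24El Cfsg.Agent.KFacts.M24Two.CentZ Cfsg.Agent.KFacts.M24Two.Octad
open Cfsg.Agent.KFacts.M24Pair.Letters Cfsg.Agent.OddHalf.M24 Cfsg.Agent.Co2Type.Quad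
open scoped Pointwise

/-! ### Data -/

/-- `(u, k)` with `k` centralising `X14, X15`, `k X13 k⁻¹ = u` -/
def tB : List (List ℕ × List ℕ) := [([1], []), ([1, 2], [7]), ([1, 3], [8]), ([0, 1], [10]), ([1, 2, 3], [8,
  7]), ([0, 1, 2], [10, 7]), ([0, 1, 3], [10, 8]), ([0], [4, 10]), ([0, 1, 2, 3], [10, 8, 7]), ([0, 2], [4,
  10, 7]), ([0, 3], [4, 10, 8]), ([0, 2, 3], [4, 10, 8, 7])]

/-- `(u, k)` with `k` centralising `X13, X14, X15`, `k X12 k⁻¹ = u` -/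
def tC : List (List ℕ × List ℕ) := [([0], []), ([0, 1], [4]), ([0, 2], [5]), ([0, 3], [6]), ([0, 1, 2], [5,
  4]), ([0, 1, 3], [6, 4]), ([0, 2, 3], [6, 5]), ([0, 1, 2, 3], [6, 5, 4])]

/-- the words in the letters `X25, X35, X45` -/
def LF : List (List ℕ) := [[], [6], [8], [9], [6, 8], [6, 9], [8, 9], [6, 8, 9]]

/-! ### The group `Q` -/

/-- `Q = O₂(C(z))` -/
noncomputable def Q : Subgroup M24 := cl [0, 1, 2, 3, 6, 8, 9]

theorem E1_le_Q : E1 ≤ Q := cl_le fun r hr => xx_mem (by revert r; decide)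

theorem E2_le_Q : E2 ≤ Q := cl_le fun r hr => xx_mem (by revert r; decide)

theorem Q_le_C : Q ≤ C := cl_le fun r hr => xx_mem_C (by revert r; decide)

theorem z_mem_Q : z ∈ Q := E1_le_Q z_mem_E1

theorem z_mem_C : z ∈ C := Q_le_C z_mem_Q

theorem Q_normal {c : M24} (hc : c ∈ C) {x : M24} (hx : x ∈ Q) : c * x * c⁻¹ ∈ Q := by
  refine conj_mem_cl (rs := [0, 1, 2, 3, 6, 8, 9]) (fun r hr => ?_) hx
  have h : r ∈ [0, 1, 2, 3] ∨ r ∈ [3, 6, 8, 9] := by revert r; decide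
  rcases h with h | h
  · exact E1_le_Q (E1_normal hc (xx_mem h))
  · exact E2_le_Q (E2_normal hc (xx_mem h))

theorem z_inv : z⁻¹ = z := inv_eq_of_mul_eq_one_left zz

theorem commC {x : M24} (hx : x ∈ C) : x * z = z * x := mem_C.1 hx

/-- the elements commuting with `a` modulo `⟨z⟩` -/
noncomputable def cmod (a : M24) (ha : a ∈ C) : Subgroup M24 where
  carrier := {x | x ∈ C ∧ (x * a = a * x ∨ x * a = a * x * z)}
  one_mem' := ⟨C.one_mem, Or.inl (by rw [one_mul, mul_one])⟩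
  mul_mem' := by
    rintro x y ⟨hx, h1⟩ ⟨hy, h2⟩
    refine ⟨C.mul_mem hx hy, ?_⟩
    have hyz := commC hy
    have hxz := commC hx
    rcases h1 with h1 | h1 <;> rcases h2 with h2 | h2
    · left; rw [mul_assoc, h2, ← mul_assoc, h1, mul_assoc]
    · right
      calc x * y * a = x * (y * a) := by group
        _ = x * a * y * z := by rw [h2]; group
        _ = a * (x * y) * z := by rw [h1]; group
    · right
      calc x * y * a = x * (y * a) := by group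
        _ = x * a * y := by rw [h2]; group
        _ = a * x * (z * y) := by rw [h1]; group
        _ = a * (x * y) * z := by rw [← hyz]; group
    · left
      calc x * y * a = x * (y * a) := by group
        _ = x * a * y * z := by rw [h2]; group
        _ = a * x * (z * y) * z := by rw [h1]; group
        _ = a * (x * y) * (z * z) := by rw [← hyz]; group
        _ = _ := by rw [zz, mul_one]
  inv_mem' := by
    rintro x ⟨hx, h1⟩
    refine ⟨C.inv_mem hx, ?_⟩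
    have haz := commC ha
    have hxz := commC hx
    rcases h1 with h1 | h1
    · left
      rw [inv_mul_eq_iff_eq_mul, ← mul_assoc, h1, mul_inv_cancel_right]
    · right
      have h3 : x⁻¹ * z = z * x⁻¹ := commC (C.inv_mem hx)
      calc x⁻¹ * a = x⁻¹ * (a * x * z) * z⁻¹ * x⁻¹ := by group
        _ = x⁻¹ * (x * a) * z * x⁻¹ := by rw [← h1, z_inv]
        _ = a * (z * x⁻¹) := by group
        _ = a * x⁻¹ * z := by rw [← h3]; group

theorem Q_comm {x y : M24} (hx : x ∈ Q) (hy : y ∈ Q) : x * y = y * x ∨ x * y = y * x * z := by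
  have h0 : ∀ r ∈ [0, 1, 2, 3, 6, 8, 9], ∀ s ∈ [0, 1, 2, 3, 6, 8, 9],
      weqb [r, s] [s, r] = true ∨ weqb [r, s] [s, r, 3] = true := by decide +kernel
  have h1 : ∀ s ∈ [0, 1, 2, 3, 6, 8, 9], ∀ a ∈ Q, a * xx s = xx s * a ∨ a * xx s = xx s * a * z := by
    intro s hs a ha
    have hsC : xx s ∈ C := Q_le_C (xx_mem hs)
    have h2 : Q ≤ cmod (xx s) hsC := by
      apply cl_le
      intro r hr
      refine ⟨Q_le_C (xx_mem hr), ?_⟩
      rcases h0 r hr s hs with h | h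
      · left
        have h3 := weq h
        simpa only [ev_cons, ev_nil, mul_one] using h3
      · right
        have h3 := weq h
        simp only [ev_cons, ev_nil, mul_one] at h3
        rw [h3, mul_assoc, z_eq]
    exact (h2 ha).2
  have hxC := Q_le_C hx
  have h2 : Q ≤ cmod x hxC := by
    apply cl_le
    intro s hs
    refine ⟨Q_le_C (xx_mem hs), ?_⟩
    rcases h1 s hs x hx with h | h
    · left; rw [h]
    · right
      have hsz : xx s * x * z = z * (xx s * x) := commC (C.mul_mem (Q_le_C (xx_mem hs)) hxC)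
      rw [h, mul_assoc, zz, mul_one]
  rcases (h2 hy).2 with h | h
  · left; rw [h]
  · right; rw [h, mul_assoc, zz, mul_one]

theorem Q_sq {x : M24} (hx : x ∈ Q) : x * x = 1 ∨ x * x = z := by
  have h : x ∈ Q ∧ (x * x = 1 ∨ x * x = z) := by
    have hx' := hx
    unfold Q cl at hx
    induction hx using Subgroup.closure_induction with
    | mem x h =>
      obtain ⟨r, hr, rfl⟩ := h
      have h12 : ∀ r ∈ [0, 1, 2, 3, 6, 8, 9], r < 12 := by decide
      exact ⟨hx', Or.inl (xx_sq (h12 r hr))⟩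
    | one => exact ⟨Q.one_mem, Or.inl (mul_one 1)⟩
    | mul x y hx hy ihx ihy =>
      have hxQ : x ∈ Q := hx
      have hyQ : y ∈ Q := hy
      obtain ⟨-, h1⟩ := ihx hxQ
      obtain ⟨-, h2⟩ := ihy hyQ
      refine ⟨hx', ?_⟩
      have hz : y * y * z = z * (y * y) := commC (C.mul_mem (Q_le_C hyQ) (Q_le_C hyQ))
      have h3 : x * y * (x * y) = x * x * (y * y) ∨ x * y * (x * y) = x * x * (y * y) * z := by
        rcases Q_comm hyQ hxQ with h | h
        · left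
          calc x * y * (x * y) = x * (y * x) * y := by group
            _ = x * x * (y * y) := by rw [h]; group
        · right
          calc x * y * (x * y) = x * (y * x) * y := by group
            _ = x * x * y * (z * y) := by rw [h]; group
            _ = x * x * (y * y) * z := by rw [← commC (Q_le_C hyQ)]; group
      rcases h3 with h3 | h3 <;> rcases h1 with h1 | h1 <;> rcases h2 with h2 | h2 <;>
        rw [h3, h1, h2] <;> simp only [one_mul, mul_one, zz, true_or, or_true]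
    | inv x hx ih =>
      have hxQ : x ∈ Q := hx
      obtain ⟨-, h1⟩ := ih hxQ
      refine ⟨hx', ?_⟩
      rw [← mul_inv_rev]
      rcases h1 with h1 | h1 <;> rw [h1]
      · left; exact inv_one
      · right; exact z_inv
  exact h.2

theorem cent_Q {x : M24} (h : ∀ r ∈ [0, 1, 2, 3, 6, 8, 9], x * xx r = xx r * x) : x = 1 ∨ x = z := by
  have h1 : x ∈ E1 := mem_E1_of_comm fun r hr => h r (by revert r; decide)
  obtain ⟨w, hw, rfl⟩ := mem_E1.1 h1
  have h2 : ∀ w ∈ LE1, w = [] ∨ w = [3] ∨ wneb (w ++ [6]) (6 :: w) = true ∨ wneb (w ++ [8]) (8 :: w) = true ∨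
      wneb (w ++ [9]) (9 :: w) = true := by decide +kernel
  rcases h2 w hw with rfl | rfl | h2 | h2 | h2
  · exact Or.inl ev_nil
  · exact Or.inr (ev_singleton 3)
  all_goals
    exfalso
    have h3 := ne_of_wneb h2
    rw [ev_append, ev_singleton, ev_cons] at h3
  · exact h3 (h 6 (by decide))
  · exact h3 (h 8 (by decide))
  · exact h3 (h 9 (by decide))

/-- `Q` is large: extraspecial, normal in `C(z)`, self-centralising -/
theorem large : Large Q z where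
  z_mem := z_mem_Q
  z_ne := z_ne
  z_sq := zz
  comm_z := fun x hx => commC (Q_le_C hx)
  conj_mem := fun g hg x hx => Q_normal (mem_C.2 hg) hx
  sq := fun x hx => Q_sq hx
  comm := fun x hx y hy => Q_comm hx hy
  cent := fun x _ h => cent_Q fun r hr => h _ (xx_mem hr)
  self := fun g _ h => by
    rcases cent_Q (x := g) fun r hr => h _ (xx_mem hr) with h1 | h1
    · rw [h1]; exact Q.one_mem
    · rw [h1]; exact z_mem_Q

/-! ### Elements centralising `E1` modulo `⟨z⟩` -/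

/-- the word in `X25, X35, X45` with given signs on `X12, X13, X14` -/
def Fw (a b c : Bool) : List ℕ := (cond a [6] []) ++ (cond b [8] []) ++ (cond c [9] [])

/-- the sign -/
def sg (a : Bool) : List ℕ := cond a [3] []

theorem Fw_ok : ∀ a b c : Bool, (weqb (Fw a b c ++ [0]) (([0] ++ sg a) ++ Fw a b c) &&
    weqb (Fw a b c ++ [1]) (([1] ++ sg b) ++ Fw a b c) &&
    weqb (Fw a b c ++ [2]) (([2] ++ sg c) ++ Fw a b c) &&
    weqb (Fw a b c ++ [3]) ([3] ++ Fw a b c)) = true ∧ Fw a b c ∈ LF := by decide +kernel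

theorem exists_sign {x y : M24} (h : x = y ∨ x = y * z) : ∃ a : Bool, x = y * ev (sg a) := by
  rcases h with h | h
  · exact ⟨false, by rw [h]; exact (mul_one y).symm⟩
  · refine ⟨true, ?_⟩
    rw [h]
    show y * z = y * ev [3]
    rw [ev_singleton, z_eq]

theorem mem_words {q : M24} (hqC : q ∈ C) (h : ∀ r ∈ [0, 1, 2], q * xx r * q⁻¹ = xx r ∨ q * xx r * q⁻¹ = xx r * z) :
    ∃ f ∈ LF, ∃ e ∈ LE1, q = ev (f ++ e) := by
  obtain ⟨a, ha⟩ := exists_sign (h 0 (by decide))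
  obtain ⟨b, hb⟩ := exists_sign (h 1 (by decide))
  obtain ⟨c, hc⟩ := exists_sign (h 2 (by decide))
  obtain ⟨h1, h2⟩ := Fw_ok a b c
  rw [Bool.and_eq_true, Bool.and_eq_true, Bool.and_eq_true] at h1
  obtain ⟨⟨⟨h3, h4⟩, h5⟩, h6⟩ := h1
  have h3' := conj_of_weq h3
  have h4' := conj_of_weq h4
  have h5' := conj_of_weq h5
  have h6' := conj_of_weq h6
  rw [ev_append, ev_singleton, ← ha] at h3'
  rw [ev_append, ev_singleton, ← hb] at h4'
  rw [ev_append, ev_singleton, ← hc] at h5'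
  rw [ev_singleton] at h6'
  set f := ev (Fw a b c) with hf
  have key : ∀ x : M24, f * x * f⁻¹ = q * x * q⁻¹ → f⁻¹ * q * x = x * (f⁻¹ * q) := by
    intro x hx
    calc f⁻¹ * q * x = f⁻¹ * (q * x * q⁻¹) * q := by group
      _ = f⁻¹ * (f * x * f⁻¹) * q := by rw [hx]
      _ = x * (f⁻¹ * q) := by group
  have h7 : f⁻¹ * q ∈ E1 := by
    apply mem_E1_of_comm
    intro r hr
    have hr' : r = 0 ∨ r = 1 ∨ r = 2 ∨ r = 3 := by revert r; decide
    rcases hr' with rfl | rfl | rfl | rfl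
    · exact key _ h3'
    · exact key _ h4'
    · exact key _ h5'
    · apply key
      rw [h6', ← z_eq, commC hqC, mul_inv_cancel_right]
  obtain ⟨e, he, h8⟩ := mem_E1.1 h7
  refine ⟨Fw a b c, h2, e, he, ?_⟩
  rw [ev_append, ← h8, ← hf, mul_inv_cancel_left]

theorem words_fix : (LF.all fun f => LE1.all fun e => (f.isEmpty || e.isEmpty || (e == [3])) ||
    !((List.range 24).any fun i => Nat.beq (papp (prodW gx (f ++ e)) i) i)) = true := by decide +kernel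

theorem LF_sub : ∀ f ∈ LF, ∀ k ∈ f, k ∈ [3, 6, 8, 9] := by decide

theorem words_of_fix {f e : List ℕ} (hf : f ∈ LF) (he : e ∈ LE1) {p : GolayPt} (hp : ev (f ++ e) • p = p) :
    f = [] ∨ e = [] ∨ e = [3] := by
  have h := List.all_eq_true.1 (List.all_eq_true.1 words_fix f hf) e he
  rw [Bool.or_eq_true, Bool.or_eq_true, Bool.or_eq_true, Bool.not_eq_true', List.isEmpty_iff, List.isEmpty_iff,
    beq_iff_eq] at h
  rcases h with h | h
  · rwa [or_assoc] at h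
  · exfalso
    rw [← Bool.not_eq_true] at h
    apply h
    rw [List.any_eq_true]
    refine ⟨idx p, List.mem_range.2 (idx_lt p), ?_⟩
    have h1 : ev (f ++ e) • pt (idx p) = pt (papp (prodW gx (f ++ e)) (idx p)) := ev_smul _ (idx_lt p)
    rw [pt_idx, hp] at h1
    have h2 := congrArg idx h1
    rw [idx_pt (papp_word_lt _ (idx_lt p))] at h2
    rw [← h2]
    exact Nat.beq_refl _

/-- elements of `Q` with a fixed point are in `E1` or in `E2` -/
theorem mem_of_fix {f e : List ℕ} (hf : f ∈ LF) (he : e ∈ LE1) {p : GolayPt} (hp : ev (f ++ e) • p = p) :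
    ev (f ++ e) ∈ E1 ∨ ev (f ++ e) ∈ E2 := by
  rcases words_of_fix hf he hp with rfl | rfl | rfl
  · left; exact mem_E1.2 ⟨e, he, rfl⟩
  · right
    rw [List.append_nil]
    exact ev_mem_cl (LF_sub f hf)
  · right
    rw [ev_append, ev_singleton]
    exact E2.mul_mem (ev_mem_cl (LF_sub f hf)) (xx_mem (by decide))

end Cfsg.Agent.KFacts.M24Two.QGroup

end
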