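import Cfsg.Agent.KFacts.M24Two.Tool
set_option linter.all false

/-!
# Lower bounds for the orders of subgroups of `M24` by stabiliser chains

`sz_le_card`: a subgroup of `M24` containing the explicit elements of `gl` has at least `sz lv` elements, where `lv` is a
list of levels `(b, ts)`: the elements `ts` (words in `gl`) fix the previous base points and map `b` to distinct points.
-/

set_option autoImplicit false

namespace Cfsg.Agent.KFacts.M24Two.Chain

open Cfsg Cfsg.Agent.SporadicA.GolayBase Cfsg.Agent.SporadicA.GolayPerm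
open Cfsg.Agent.SporadicStructure.M24El Cfsg.Agent.KFacts.M24Two.Tool
open scoped Pointwise

/-- distinct entries -/
def nd : List ℕ → Bool
  | [] => true
  | a :: l => !(l.any fun b => Nat.beq a b) && nd l

theorem nodup_of_nd : ∀ {l : List ℕ}, nd l = true → l.Nodup
  | [], _ => List.nodup_nil
  | a :: l, h => by
    unfold nd at h
    rw [Bool.and_eq_true, Bool.not_eq_true'] at h
    rw [List.nodup_cons]
    refine ⟨fun ha => ?_, nodup_of_nd h.2⟩
    have : (l.any fun b => Nat.beq a b) = true := List.any_eq_true.2 ⟨a, ha, Nat.beq_refl a⟩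
    rw [this] at h
    exact absurd h.1 (by decide)

/-- check of the levels -/
def chkLv : List ℕ → List (ℕ × List ℕ) → Bool
  | _, [] => true
  | fixed, (b, ts) :: lv => Nat.blt b 24 && nd (ts.map fun t => papp t b) &&
      (ts.all fun t => ok t && fixed.all fun c => Nat.beq (papp t c) c) && chkLv (b :: fixed) lv

/-- the product of the lengths of the levels -/
def sz : List (ℕ × List ℕ) → ℕ
  | [] => 1
  | (_, ts) :: lv => ts.length * sz lv

/-- the elements of `H` fixing some points -/
abbrev St (H : Subgroup M24) (fixed : List ℕ) : Type := {g : M24 // g ∈ H ∧ ∀ c ∈ fixed, g • pt c = pt c}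

theorem sz_le_aux (H : Subgroup M24) : ∀ (lv : List (ℕ × List ℕ)) (fixed : List ℕ),
    (∀ c ∈ fixed, c < 24) → chkLv fixed lv = true → (∀ e ∈ lv, ∀ t ∈ e.2, el t ∈ H) →
    sz lv ≤ Nat.card (St H fixed)
  | [], fixed, _, _, _ => by
    have : Nonempty (St H fixed) := ⟨⟨1, H.one_mem, fun c _ => one_smul _ _⟩⟩
    exact Nat.card_pos
  | (b, ts) :: lv, fixed, hf, h, hH => by
    unfold chkLv at h
    simp only [Bool.and_eq_true, List.all_eq_true, Nat.beq_eq, Nat.blt_eq] at h
    obtain ⟨⟨⟨hb, h1⟩, h2⟩, h3⟩ := h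
    have ih := sz_le_aux H lv (b :: fixed) (by
      intro c hc
      rcases List.mem_cons.1 hc with rfl | hc
      · exact hb
      · exact hf c hc) h3 (fun e he => hH e (List.mem_cons_of_mem _ he))
    have hnd := nodup_of_nd h1
    have hmul : ts.length * Nat.card (St H (b :: fixed)) ≤ Nat.card (St H fixed) := by
      have h4 : Nat.card (Fin ts.length × St H (b :: fixed)) = ts.length * Nat.card (St H (b :: fixed)) := by
        rw [Nat.card_prod, Nat.card_eq_fintype_card, Fintype.card_fin]
      rw [← h4]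
      apply Nat.card_le_card_of_injective (fun x : Fin ts.length × St H (b :: fixed) =>
        (⟨el (ts[(x.1 : ℕ)]'x.1.2) * x.2, H.mul_mem (hH _ List.mem_cons_self _ (List.getElem_mem _)) x.2.2.1, by
          intro c hc
          rw [mul_smul, x.2.2.2 c (List.mem_cons_of_mem _ hc)]
          obtain ⟨h5, h6⟩ := h2 _ (List.getElem_mem x.1.2)
          rw [el_smul_pt h5, idx_pt (hf c hc), h6 c hc]⟩ : St H fixed))
      rintro ⟨i, x⟩ ⟨j, y⟩ e
      have e1 : el (ts[(i : ℕ)]'i.2) * (x : M24) = el (ts[(j : ℕ)]'j.2) * y := congrArg Subtype.val e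
      have hi : el (ts[(i : ℕ)]'i.2) • pt b = pt (papp (ts[(i : ℕ)]'i.2) b) := by
        rw [el_smul_pt (h2 _ (List.getElem_mem i.2)).1, idx_pt hb]
      have hj : el (ts[(j : ℕ)]'j.2) • pt b = pt (papp (ts[(j : ℕ)]'j.2) b) := by
        rw [el_smul_pt (h2 _ (List.getElem_mem j.2)).1, idx_pt hb]
      have e2 : pt (papp (ts[(i : ℕ)]'i.2) b) = pt (papp (ts[(j : ℕ)]'j.2) b) := by
        rw [← hi, ← hj]
        have := congrArg (fun g : M24 => g • pt b) e1
        simp only [mul_smul] at this
        rwa [x.2.2 b List.mem_cons_self, y.2.2 b List.mem_cons_self] at this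
      have e3 : papp (ts[(i : ℕ)]'i.2) b = papp (ts[(j : ℕ)]'j.2) b := by
        have := congrArg idx e2
        rwa [idx_pt (papp_lt (ok_iff.1 (h2 _ (List.getElem_mem i.2)).1).1 hb),
          idx_pt (papp_lt (ok_iff.1 (h2 _ (List.getElem_mem j.2)).1).1 hb)] at this
      have e4 : (i : ℕ) = j := by
        have h5 : (ts.map fun t => papp t b)[(i : ℕ)]'(by simp) = (ts.map fun t => papp t b)[(j : ℕ)]'(by simp) := by
          rw [List.getElem_map, List.getElem_map]
          exact e3
        exact (List.Nodup.getElem_inj_iff hnd).1 h5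
      have e5 : i = j := Fin.ext e4
      subst e5
      rw [mul_right_inj] at e1
      rw [Subtype.ext e1]
    calc sz ((b, ts) :: lv) = ts.length * sz lv := rfl
      _ ≤ ts.length * Nat.card (St H (b :: fixed)) := Nat.mul_le_mul_left _ ih
      _ ≤ _ := hmul

/-- **Lower bound for the order.** -/
theorem sz_le_card {H : Subgroup M24} {gl : List ℕ} (hgl : ∀ P ∈ gl, ok P = true)
    (hH : ∀ P ∈ gl, el P ∈ H) {lv : List (ℕ × List ℕ)} {ws : List (List ℕ)} (h : chkLv [] lv = true)
    (hw : chkW gl (lv.flatMap Prod.snd) ws = true) : sz lv ≤ Nat.card H := by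
  have h1 := sz_le_aux H lv [] (by simp) h (by
    intro e he t ht
    exact mem_of_chkW hgl hw hH (List.mem_flatMap.2 ⟨e, he, ht⟩))
  refine h1.trans (le_of_eq ?_)
  refine Nat.card_congr (Equiv.subtypeEquivRight fun g => ?_)
  simp

end Cfsg.Agent.KFacts.M24Two.Chain
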